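import Mathlib
import Cfsg.Agent.LieRecognition.FT61.O3

/-!
# Class sizes: powers, Sylow subgroups, groups with trivial centre

`cs x` is the size of the conjugacy class of `x` (the index of its centralizer).

* `cs_pow_dvd`: the class size of a power divides the class size.
* `exists_dvd_cs`: in a finite group with trivial centre every prime divisor of the order divides a
  class size.
* `card_eq_of_two_types`: the combinatorial core of the theorem on groups with a disconnected prime graph.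
-/

set_option autoImplicit false

namespace Cfsg.Agent.H529.ClassSizes

open Subgroup

variable {G : Type*} [Group G]

/-- The class size of `x`. -/
noncomputable def cs (x : G) : ℕ := (centralizer ({x} : Set G)).index

theorem cs_pow_dvd (x : G) (k : ℕ) : cs (x ^ k) ∣ cs x := by
  refine index_dvd_of_le ?_
  intro g hg
  rw [mem_centralizer_singleton_iff] at hg ⊢
  exact (Commute.pow_right (show Commute g x from hg) k).eq

theorem cs_dvd_mul_left {x y : G} (hxy : Commute x y) (hco : (orderOf x).Coprime (orderOf y)) :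
    cs x ∣ cs (x * y) := by
  obtain ⟨k, hk1, hk2⟩ := Nat.chineseRemainder hco 1 0
  have h : (x * y) ^ k = x := by
    rw [hxy.mul_pow]
    have h1 : x ^ k = x ^ 1 := (pow_eq_pow_iff_modEq).2 hk1
    have h2 : y ^ k = y ^ 0 := (pow_eq_pow_iff_modEq).2 hk2
    rw [h1, h2]; simp
  have := cs_pow_dvd (x * y) k
  rwa [h] at this

theorem cs_dvd_mul_right {x y : G} (hxy : Commute x y) (hco : (orderOf x).Coprime (orderOf y)) :
    cs y ∣ cs (x * y) := by
  rw [hxy.eq]
  exact cs_dvd_mul_left hxy.symm hco.symm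

theorem card_mul_cs (x : G) : Nat.card (centralizer ({x} : Set G)) * cs x = Nat.card G :=
  card_mul_index _

variable [Finite G]

theorem cs_ne_zero (x : G) : cs x ≠ 0 := index_ne_zero_of_finite

theorem cs_eq_one_iff (x : G) : cs x = 1 ↔ x ∈ center G := by
  rw [cs, index_eq_one, ← mem_center_iff_centralizer]
where
  mem_center_iff_centralizer {x : G} : x ∈ center G ↔ centralizer ({x} : Set G) = ⊤ := by
    rw [eq_top_iff]
    constructor
    · intro h g _
      rw [mem_centralizer_singleton_iff]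
      exact (mem_center_iff.1 h g)
    · intro h
      rw [mem_center_iff]
      intro g
      have := h (mem_top g)
      rw [mem_centralizer_singleton_iff] at this
      exact this

/-- In a group with trivial centre every prime divisor of the order divides some class size. -/
theorem exists_dvd_cs (hZ : center G = ⊥) {p : ℕ} (hp : p.Prime) (hpG : p ∣ Nat.card G) :
    ∃ x : G, p ∣ cs x := by
  have : Fact p.Prime := ⟨hp⟩
  by_contra hcon
  push Not at hcon
  obtain ⟨P⟩ : Nonempty (Sylow p G) := inferInstance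
  have hC : centralizer ((P : Subgroup G) : Set G) = ⊤ := by
    by_contra hne
    obtain ⟨g, hg⟩ := Cfsg.Agent.LieRecognition.FT61.O3.exists_not_conj _ hne
    -- a Sylow subgroup of the centralizer of `g` is Sylow in `G`
    obtain ⟨R⟩ : Nonempty (Sylow p (centralizer ({g} : Set G))) := inferInstance
    have hR : IsPGroup p ((R : Subgroup (centralizer ({g} : Set G))).map
        (centralizer ({g} : Set G)).subtype) := R.isPGroup'.map _
    have hRi : ¬ p ∣ ((R : Subgroup (centralizer ({g} : Set G))).map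
        (centralizer ({g} : Set G)).subtype).index := by
      rw [index_map_subtype]
      intro hd
      rcases (Nat.Prime.dvd_mul hp).1 hd with h | h
      · exact R.not_dvd_index h
      · exact hcon g h
    let R' : Sylow p G := IsPGroup.toSylow hR hRi
    obtain ⟨h, hh⟩ := MulAction.exists_smul_eq G P R'
    apply hg h
    rw [mem_centralizer_iff]
    intro y hy
    have h1 : h * y * h⁻¹ ∈ (R' : Subgroup G) := by
      rw [← hh]
      exact Sylow.smul_def (g := h) (P := P) ▸ ⟨y, hy, rfl⟩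
    have h2 : h * y * h⁻¹ ∈ centralizer ({g} : Set G) := by
      obtain ⟨z, _, hz⟩ := (show h * y * h⁻¹ ∈ ((R : Subgroup (centralizer ({g} : Set G))).map
        (centralizer ({g} : Set G)).subtype) from h1)
      rw [← hz]; exact z.2
    rw [mem_centralizer_singleton_iff] at h2
    calc y * (h⁻¹ * g * h) = h⁻¹ * (h * y * h⁻¹ * g) * h := by group
      _ = h⁻¹ * (g * (h * y * h⁻¹)) * h := by rw [h2]
      _ = (h⁻¹ * g * h) * y := by group
  have hP : (P : Subgroup G) ≤ center G := by
    intro y hy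
    rw [mem_center_iff]
    intro g
    have := (hC ▸ mem_top g : g ∈ centralizer ((P : Subgroup G) : Set G))
    rw [mem_centralizer_iff] at this
    exact (this y hy).symm
  rw [hZ, le_bot_iff] at hP
  have hcard := P.card_eq_multiplicity
  rw [hP, card_bot] at hcard
  have : 1 ≤ (Nat.card G).factorization p := hp.dvd_iff_one_le_factorization
    (Nat.card_pos.ne') |>.1 hpG
  have h2 : p ^ 1 ≤ p ^ (Nat.card G).factorization p := Nat.pow_le_pow_right hp.pos this
  rw [← hcard, pow_one] at h2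
  exact absurd hp.two_le (by omega)

/-- A nontrivial element of the centre of a Sylow `p`-subgroup has class size prime to `p`. -/
theorem exists_central {p : ℕ} [Fact p.Prime] (P : Sylow p G) (hpG : p ∣ Nat.card G) :
    ∃ z ∈ (P : Subgroup G), z ≠ 1 ∧ (∀ y ∈ (P : Subgroup G), y * z = z * y) ∧ ¬ p ∣ cs z := by
  have hne : Nontrivial (P : Subgroup G) := by
    rw [← Finite.one_lt_card_iff_nontrivial, P.card_eq_multiplicity]
    exact Nat.one_lt_pow ((Fact.out : p.Prime).dvd_iff_one_le_factorization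
      (Nat.card_pos.ne') |>.1 hpG |>.trans_lt' Nat.zero_lt_one |>.ne') (Fact.out : p.Prime).one_lt
  have hZ := P.isPGroup'.center_nontrivial
  obtain ⟨z, hz1⟩ := exists_ne (1 : center (P : Subgroup G))
  have hcomm : ∀ y ∈ (P : Subgroup G), y * ((z : (P : Subgroup G)) : G)
      = ((z : (P : Subgroup G)) : G) * y := by
    intro y hy
    exact congrArg Subtype.val (mem_center_iff.1 z.2 ⟨y, hy⟩)
  refine ⟨((z : (P : Subgroup G)) : G), (z : (P : Subgroup G)).2, ?_, hcomm, ?_⟩
  · intro h
    exact hz1 (Subtype.ext (Subtype.ext h))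
  · intro hd
    refine P.not_dvd_index (hd.trans (index_dvd_of_le ?_))
    intro y hy
    rw [mem_centralizer_singleton_iff]
    exact hcomm y hy

/-- **Core.** `G` has trivial centre, every class size `≠ 1` divides `m₁ m₂` and is divisible by exactly one of
the coprime numbers `m₁`, `m₂`. Then the `p`-part of the order is the `p`-part of `m₁`, for `p ∣ m₁`. -/
theorem factorization_le {m₁ m₂ : ℕ} (hco : m₁.Coprime m₂) (h0 : m₁ * m₂ ≠ 0)
    (hdvd : ∀ x : G, cs x ∣ m₁ * m₂)
    (hone : ∀ x : G, x ≠ 1 → (m₁ ∣ cs x ∧ ¬ m₂ ∣ cs x) ∨ (m₂ ∣ cs x ∧ ¬ m₁ ∣ cs x))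
    (hm₂ : m₂ ≠ 1) (hm₂G : m₂ ∣ Nat.card G)
    {p : ℕ} (hp : p.Prime) (hpm : p ∣ m₁) :
    (Nat.card G).factorization p ≤ m₁.factorization p := by
  have : Fact p.Prime := ⟨hp⟩
  have hm₁0 : m₁ ≠ 0 := left_ne_zero_of_mul h0
  have hm₂0 : m₂ ≠ 0 := right_ne_zero_of_mul h0
  have hG0 : Nat.card G ≠ 0 := Nat.card_pos.ne'
  have hpm₂ : ¬ p ∣ m₂ := fun h => hp.one_lt.ne' (Nat.eq_one_of_dvd_coprimes hco hpm h)
  by_contra hlt
  push Not at hlt
  -- the `p`-part of a class size of type 2
  have hpart : ∀ x : G, m₁ ∣ cs x → (cs x).factorization p = m₁.factorization p := by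
    intro x hx
    apply le_antisymm
    · have := (Nat.factorization_le_iff_dvd (cs_ne_zero x) h0).2 (hdvd x) p
      rw [Nat.factorization_mul hm₁0 hm₂0, Finsupp.add_apply,
        Nat.factorization_eq_zero_of_not_dvd hpm₂, add_zero] at this
      exact this
    · exact (Nat.factorization_le_iff_dvd hm₁0 (cs_ne_zero x)).2 hx p
  have hcen : ∀ x : G, m₁ ∣ cs x → (Nat.card (centralizer ({x} : Set G))).factorization p
      = (Nat.card G).factorization p - m₁.factorization p := by
    intro x hx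
    rw [← card_mul_cs x, Nat.factorization_mul Nat.card_pos.ne' (cs_ne_zero x), Finsupp.add_apply,
      hpart x hx]
    omega
  obtain ⟨q, hq, hqm⟩ := Nat.exists_prime_and_dvd hm₂
  have : Fact q.Prime := ⟨hq⟩
  have hpq : p ≠ q := by rintro rfl; exact hpm₂ hqm
  obtain ⟨Q⟩ : Nonempty (Sylow q G) := inferInstance
  obtain ⟨z, hzQ, hz1, -, hzq⟩ := exists_central Q (hqm.trans hm₂G)
  have hz₂ : m₁ ∣ cs z := by
    rcases hone z hz1 with h | h
    · exact h.1
    · exact absurd (hqm.trans h.1) hzq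
  obtain ⟨n, hn⟩ := (IsPGroup.iff_orderOf.1 Q.isPGroup') ⟨z, hzQ⟩
  rw [orderOf_mk] at hn
  -- elements of `p`-power order commuting with `z` have type 2
  have htype : ∀ u : G, u ≠ 1 → (∃ k, orderOf u = p ^ k) → Commute u z → m₁ ∣ cs u := by
    intro u hu ⟨k, hk⟩ huz
    rcases hone u hu with h | h
    · exact h.1
    · exfalso
      have hcop : (orderOf u).Coprime (orderOf z) := by
        rw [hk, hn]
        exact Nat.Coprime.pow _ _ ((Nat.coprime_primes hp hq).2 hpq)
      have h1 := h.1.trans (cs_dvd_mul_left huz hcop)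
      have h2 := hz₂.trans (cs_dvd_mul_right huz hcop)
      have hne : u * z ≠ 1 := by
        intro he
        have : u = z⁻¹ := eq_inv_of_mul_eq_one_left he
        rw [this, orderOf_inv] at hcop
        exact hz1 (orderOf_eq_one_iff.1 (Nat.coprime_self _ |>.1 hcop))
      rcases hone _ hne with h' | h'
      · exact h'.2 h1
      · exact h'.2 h2
  obtain ⟨P₀⟩ : Nonempty (Sylow p (centralizer ({z} : Set G))) := inferInstance
  set P₁ : Subgroup G := (P₀ : Subgroup (centralizer ({z} : Set G))).map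
    (centralizer ({z} : Set G)).subtype with hP₁
  have hP₁p : IsPGroup p P₁ := P₀.isPGroup'.map _
  have hP₁card : Nat.card P₁ = p ^ ((Nat.card G).factorization p - m₁.factorization p) := by
    rw [hP₁, card_map_of_injective (subtype_injective _), P₀.card_eq_multiplicity, hcen z hz₂]
  have hP₁z : ∀ u ∈ P₁, Commute u z := by
    rintro _ ⟨u, _, rfl⟩
    exact mem_centralizer_singleton_iff.1 u.2
  obtain ⟨P, hP⟩ := hP₁p.exists_le_sylow
  have hP₁nt : Nontrivial P₁ := by
    rw [← Finite.one_lt_card_iff_nontrivial, hP₁card]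
    exact Nat.one_lt_pow (by omega) hp.one_lt
  have hZ := hP₁p.center_nontrivial
  obtain ⟨u', hu'1⟩ := exists_ne (1 : center P₁)
  obtain ⟨u, hu⟩ : ∃ u : G, u = ((u' : P₁) : G) := ⟨_, rfl⟩
  have huP₁ : u ∈ P₁ := hu ▸ (u' : P₁).2
  have hu1 : u ≠ 1 := by
    intro h
    exact hu'1 (Subtype.ext (Subtype.ext (hu ▸ h)))
  have hucomm : ∀ y ∈ P₁, y * u = u * y := by
    intro y hy
    rw [hu]
    exact congrArg Subtype.val (mem_center_iff.1 u'.2 ⟨y, hy⟩)
  have hord : ∀ y ∈ P₁, ∃ k, orderOf y = p ^ k := by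
    intro y hy
    obtain ⟨k, hk⟩ := IsPGroup.iff_orderOf.1 hP₁p ⟨y, hy⟩
    rw [orderOf_mk] at hk
    exact ⟨k, hk⟩
  have hu₂ : m₁ ∣ cs u := htype u hu1 (hord u huP₁) (hP₁z u huP₁)
  -- `C_P(u) = P₁`
  set D : Subgroup G := (P : Subgroup G) ⊓ centralizer ({u} : Set G) with hD
  have hP₁D : P₁ ≤ D := le_inf hP fun y hy => mem_centralizer_singleton_iff.2 (hucomm y hy)
  have hDp : IsPGroup p D := P.isPGroup'.to_le inf_le_left
  have hDcard : Nat.card D ≤ Nat.card P₁ := by
    obtain ⟨k, hk⟩ := hDp.exists_card_eq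
    have hdv : Nat.card D ∣ Nat.card (centralizer ({u} : Set G)) := card_dvd_of_le inf_le_right
    rw [hk] at hdv ⊢
    rw [hP₁card]
    refine Nat.pow_le_pow_right hp.pos ?_
    rw [← hcen u hu₂]
    exact (hp.pow_dvd_iff_le_factorization Nat.card_pos.ne').1 hdv
  have hDeq : P₁ = D := eq_of_le_of_card_ge hP₁D hDcard
  -- the centre of `P`
  have hpG : p ∣ Nat.card G := by
    by_contra h
    rw [Nat.factorization_eq_zero_of_not_dvd h] at hlt
    omega
  obtain ⟨w, hwP, hw1, hwc, hwp⟩ := exists_central P hpG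
  have hwP₁ : w ∈ P₁ := by
    rw [hDeq, hD]
    exact mem_inf.2 ⟨hwP, mem_centralizer_singleton_iff.2 (hwc u (hP huP₁)).symm⟩
  exact hwp (hpm.trans (htype w hw1 (hord w hwP₁) (hP₁z w hwP₁)))

/-- **Core.** The order of `G` is `m₁ m₂`. -/
theorem card_eq_of_two_types {m₁ m₂ : ℕ} (hZ : center G = ⊥) (hco : m₁.Coprime m₂) (h0 : m₁ * m₂ ≠ 0)
    (hdvd : ∀ x : G, cs x ∣ m₁ * m₂)
    (hone : ∀ x : G, x ≠ 1 → (m₁ ∣ cs x ∧ ¬ m₂ ∣ cs x) ∨ (m₂ ∣ cs x ∧ ¬ m₁ ∣ cs x))
    (hm₁ : m₁ ≠ 1) (hm₂ : m₂ ≠ 1) (hm₁G : m₁ ∣ Nat.card G) (hm₂G : m₂ ∣ Nat.card G) :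
    Nat.card G = m₁ * m₂ := by
  have hm₁0 : m₁ ≠ 0 := left_ne_zero_of_mul h0
  have hm₂0 : m₂ ≠ 0 := right_ne_zero_of_mul h0
  have hG0 : Nat.card G ≠ 0 := Nat.card_pos.ne'
  refine Nat.dvd_antisymm ?_ (hco.mul_dvd_of_dvd_of_dvd hm₁G hm₂G)
  rw [← Nat.factorization_le_iff_dvd hG0 h0]
  intro p
  by_cases hp : p.Prime
  swap
  · rw [Nat.factorization_eq_zero_of_not_prime _ hp]; exact Nat.zero_le _
  by_cases hpG : p ∣ Nat.card G
  swap
  · rw [Nat.factorization_eq_zero_of_not_dvd hpG]; exact Nat.zero_le _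
  obtain ⟨x, hx⟩ := exists_dvd_cs hZ hp hpG
  rw [Nat.factorization_mul hm₁0 hm₂0, Finsupp.add_apply]
  rcases (Nat.Prime.dvd_mul hp).1 (hx.trans (hdvd x)) with h | h
  · exact (factorization_le hco h0 hdvd hone hm₂ hm₂G hp h).trans (Nat.le_add_right _ _)
  · refine (factorization_le hco.symm (by rwa [mul_comm]) (fun x => by rw [mul_comm]; exact hdvd x)
      (fun x hx => (hone x hx).symm) hm₁ hm₁G hp h).trans (Nat.le_add_left _ _)

end Cfsg.Agent.H529.ClassSizes
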