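import Mathlib
import Cfsg.Agent.S0713
import Cfsg.Agent.OddHalf.D5.ElemNorm

/-!
# Primitive groups of degree `p + 2` in the alternating group containing a `p`-cycle, `p = 5, 11`
-/

set_option autoImplicit false

namespace Cfsg.Agent.H529.TwinCycle

open Equiv MulAction SubMulAction

/-- A group of order `(p + 1) p` with a self-normalizing Sylow `p`-subgroup: `6 ∤ p + 1`. -/
theorem not_six_dvd {L : Type*} [Group L] [Finite L] {p : ℕ} [hp : Fact p.Prime]
    (hcard : Nat.card L = (p + 1) * p) (x : L) (hx : orderOf x = p)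
    (hN : ∀ n : L, n * x * n⁻¹ ∈ Subgroup.zpowers x → n ∈ Subgroup.zpowers x) : ¬ 6 ∣ p + 1 := by
  intro h6
  have hpp := hp.out
  have hcop : Nat.Coprime p (p + 1) := by simp
  have hfac : (Nat.card L).factorization p = 1 := by
    rw [hcard, Nat.factorization_mul (by omega) hpp.ne_zero, Finsupp.add_apply,
      Nat.factorization_eq_zero_of_not_dvd, hpp.factorization_self]
    intro hd
    have := Nat.Coprime.eq_one_of_dvd hcop hd
    exact hpp.one_lt.ne' this
  have hzc : Nat.card (Subgroup.zpowers x) = p ^ (Nat.card L).factorization p := by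
    rw [Nat.card_zpowers, hfac, pow_one, hx]
  set P : Sylow p L := Sylow.ofCard _ hzc with hP
  have hPc : (P : Subgroup L) = Subgroup.zpowers x := rfl
  have hNC : Subgroup.normalizer ((P : Subgroup L) : Set L) ≤ Subgroup.centralizer ((P : Subgroup L) : Set L) := by
    intro n hn
    rw [hPc] at hn ⊢
    have h1 := (Subgroup.mem_normalizer_iff.1 hn x).1 (Subgroup.mem_zpowers x)
    have h2 := hN n h1
    obtain ⟨i, rfl⟩ := Subgroup.mem_zpowers_iff.1 h2
    rw [Subgroup.mem_centralizer_iff]
    intro y hy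
    obtain ⟨j, rfl⟩ := Subgroup.mem_zpowers_iff.1 hy
    rw [← zpow_add, ← zpow_add, add_comm]
  set M : Subgroup L := (MonoidHom.transferSylow P hNC).ker with hM
  have hMc : M.IsComplement' (P : Subgroup L) := MonoidHom.ker_transferSylow_isComplement' P hNC
  have hMn : M.Normal := inferInstance
  have hMcard : Nat.card M = p + 1 := by
    have h1 := hMc.card_mul_card
    rw [hcard, hPc, Nat.card_zpowers, hx] at h1
    exact Nat.eq_of_mul_eq_mul_right hpp.pos h1
  have : Fact (Nat.Prime 2) := ⟨Nat.prime_two⟩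
  have : Fact (Nat.Prime 3) := ⟨Nat.prime_three⟩
  obtain ⟨m2, hm2⟩ := exists_prime_orderOf_dvd_card' (G := M) 2 (by rw [hMcard]; omega)
  obtain ⟨m3, hm3⟩ := exists_prime_orderOf_dvd_card' (G := M) 3 (by rw [hMcard]; omega)
  have hm2' : (m2 : L) ≠ 1 := by
    intro h
    have : m2 = 1 := Subtype.ext h
    rw [this, orderOf_one] at hm2
    omega
  let f : Subgroup.zpowers x → M := fun z => ⟨z * m2 * (z : L)⁻¹, hMn.conj_mem _ m2.2 z⟩
  have hfinj : Function.Injective f := by
    intro z w hzw
    have h1 : (z : L) * m2 * (z : L)⁻¹ = w * m2 * (w : L)⁻¹ := congrArg (fun t : M => (t : L)) hzw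
    by_contra hne
    have hu : (w : L)⁻¹ * z ∈ Subgroup.zpowers x :=
      Subgroup.mul_mem _ (Subgroup.inv_mem _ w.2) z.2
    have hu1 : (w : L)⁻¹ * z ≠ 1 := by
      intro h
      apply hne
      apply Subtype.ext
      exact (inv_mul_eq_one.1 h).symm
    have hcomm : ((w : L)⁻¹ * z) * m2 = m2 * ((w : L)⁻¹ * z) := by
      calc ((w : L)⁻¹ * z) * m2 = (w : L)⁻¹ * (z * m2 * (z : L)⁻¹) * z := by group
        _ = (w : L)⁻¹ * (w * m2 * (w : L)⁻¹) * z := by rw [h1]
        _ = _ := by group
    -- x is a power of u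
    have hxu : x ∈ Subgroup.zpowers ((w : L)⁻¹ * z) := by
      have h2 : Subgroup.zpowers ((w : L)⁻¹ * z) = Subgroup.zpowers x := by
        apply Subgroup.eq_of_le_of_card_ge (Subgroup.zpowers_le.2 hu)
        rw [Nat.card_zpowers, Nat.card_zpowers, hx]
        have h3 : orderOf ((w : L)⁻¹ * z) ∣ p := by
          rw [← hx, ← Nat.card_zpowers x]
          exact Subgroup.orderOf_dvd_natCard _ hu
        rcases (Nat.dvd_prime hpp).1 h3 with h4 | h4
        · exact absurd (orderOf_eq_one_iff.1 h4) hu1
        · exact h4.ge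
      rw [h2]
      exact Subgroup.mem_zpowers x
    obtain ⟨j, hj⟩ := Subgroup.mem_zpowers_iff.1 hxu
    have hc2 : Commute ((w : L)⁻¹ * z) (m2 : L) := hcomm
    have hc3 : Commute x (m2 : L) := by rw [← hj]; exact hc2.zpow_left j
    have h5 : (m2 : L) * x * (m2 : L)⁻¹ ∈ Subgroup.zpowers x := by
      rw [← hc3.eq, mul_inv_cancel_right]
      exact Subgroup.mem_zpowers x
    have h6 := hN _ h5
    have h7 : (m2 : L) ∈ M ⊓ (P : Subgroup L) := ⟨m2.2, h6⟩
    rw [hMc.disjoint.eq_bot, Subgroup.mem_bot] at h7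
    exact hm2' h7
  have hrange : Set.range f = ({1}ᶜ : Set M) := by
    refine Set.eq_of_subset_of_ncard_le ?_ ?_ (Set.toFinite _)
    · rintro _ ⟨z, rfl⟩ h
      have h8 : f z = 1 := h
      have h1 : (z : L) * m2 * (z : L)⁻¹ = 1 := congrArg (fun t : M => (t : L)) h8
      apply hm2'
      calc (m2 : L) = (z : L)⁻¹ * ((z : L) * m2 * (z : L)⁻¹) * z := by group
        _ = 1 := by rw [h1]; group
    · have h9 : (Set.range f).ncard = p := by
        rw [← Set.image_univ, Set.ncard_image_of_injective _ hfinj, Set.ncard_univ, Nat.card_zpowers, hx]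
      rw [h9]
      have h10 := Set.ncard_add_ncard_compl ({1} : Set M)
      rw [Set.ncard_singleton, hMcard] at h10
      omega
  have hm3' : m3 ∈ ({1}ᶜ : Set M) := by
    intro h
    have : m3 = 1 := h
    rw [this, orderOf_one] at hm3
    omega
  rw [← hrange] at hm3'
  obtain ⟨z, hz⟩ := hm3'
  have h11 : orderOf (m3 : L) = orderOf (m2 : L) := by
    rw [← hz]
    have := orderOf_injective (MulAut.conj (z : L)).toMonoidHom (MulAut.conj (z : L)).injective (m2 : L)
    exact this
  rw [Subgroup.orderOf_coe, Subgroup.orderOf_coe, hm2, hm3] at h11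
  omega

variable {α : Type*} [Fintype α] [DecidableEq α]

theorem three_transitive {H : Subgroup (Perm α)} (hH : IsPreprimitive H α) {p : ℕ} (hp : p.Prime)
    (hα : Fintype.card α = p + 2) {g : Perm α} (hgc : g.IsCycle) (hgp : g.support.card = p)
    (hg : g ∈ H) : IsMultiplyPretransitive H α 3 := by
  have hcard : ((g.support : Set α)ᶜ).ncard = 2 := by
    have h1 := Set.ncard_add_ncard_compl (g.support : Set α)
    rw [Set.ncard_coe_finset, hgp, Nat.card_eq_fintype_card, hα] at h1
    omega
  have h1 : IsMultiplyPreprimitive H α (1 + 2) := by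
    refine hH.isMultiplyPreprimitive (n := 1) hcard ?_ ?_
    · rw [Nat.card_eq_fintype_card, hα]
      have := hp.two_le
      omega
    · have := Equiv.Perm.isPretransitive_of_isCycle_mem hgc hg
      apply IsPreprimitive.of_prime_card
      have h2 : Nat.card (ofFixingSubgroup H ((g.support : Set α)ᶜ)) = p := by
        have h3 : Nat.card (ofFixingSubgroup H ((g.support : Set α)ᶜ)) =
            (((g.support : Set α)ᶜ)ᶜ).ncard := Nat.card_coe_set_eq _
        rw [h3, compl_compl, Set.ncard_coe_finset, hgp]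
      rw [h2]
      exact hp
  exact h1.isMultiplyPretransitive

/-- the order of the pointwise stabiliser of a set of size at most three -/
theorem card_fixing {H : Subgroup (Perm α)} {k : ℕ} (hH : IsMultiplyPretransitive H α k)
    (s : Set α) (hs : s.ncard = k) :
    Nat.card (fixingSubgroup H s) * (Fintype.card α).factorial = Nat.card H * (Fintype.card α - k).factorial := by
  have h1 := hH.index_of_fixingSubgroup_mul hs
  have h2 := Subgroup.card_mul_index (fixingSubgroup H s)
  rw [Nat.card_eq_fintype_card (α := α)] at h1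
  rw [← h2, ← h1]
  ring

/-- the two fixed points of the `p`-cycle -/
theorem exists_fixed {p : ℕ} (hα : Fintype.card α = p + 2) {g : Perm α} (hgp : g.support.card = p) :
    ∃ a b : α, a ≠ b ∧ g a = a ∧ g b = b ∧ ∀ c, g c = c → c = a ∨ c = b := by
  have h1 : (g.supportᶜ).card = 2 := by
    rw [Finset.card_compl, hα, hgp]; omega
  rw [Finset.card_eq_two] at h1
  obtain ⟨a, b, hab, hs⟩ := h1
  have hmem : ∀ c, g c = c ↔ c = a ∨ c = b := by
    intro c
    have h2 : c ∈ g.supportᶜ ↔ c ∈ ({a, b} : Finset α) := by rw [hs]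
    rw [Finset.mem_compl, Perm.mem_support, not_not, Finset.mem_insert, Finset.mem_singleton] at h2
    exact h2
  exact ⟨a, b, hab, (hmem a).2 (Or.inl rfl), (hmem b).2 (Or.inr rfl), fun c hc => (hmem c).1 hc⟩

theorem not_six_dvd_of_card {H : Subgroup (Perm α)} {p : ℕ} [hp : Fact p.Prime]
    (h3 : IsMultiplyPretransitive H α 3)
    (hα : Fintype.card α = p + 2) {g : Perm α} (hgc : g.IsCycle) (hgp : g.support.card = p)
    (hg : g ∈ H) {a b : α} (hab : a ≠ b) (ha : g a = a) (hb : g b = b)
    (hfix : ∀ c, g c = c → c = a ∨ c = b) (hK : Nat.card (fixingSubgroup H ({a, b} : Set α)) = p) :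
    ¬ 6 ∣ p + 1 := by
  have hpp := hp.out
  have h2p := hpp.two_le
  have hgo : orderOf g = p := by rw [hgc.orderOf, hgp]
  have h2 : IsMultiplyPretransitive H α 2 :=
    isMultiplyPretransitive_of_le (n := 3) (by norm_num) (by rw [Nat.card_eq_fintype_card, hα]; omega)
  have h1 : IsMultiplyPretransitive H α 1 :=
    isMultiplyPretransitive_of_le (n := 3) (by norm_num) (by rw [Nat.card_eq_fintype_card, hα]; omega)
  have hc2 := card_fixing h2 ({a, b} : Set α) (Set.ncard_pair hab)
  have hc1 := card_fixing h1 ({a} : Set α) (Set.ncard_singleton a)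
  rw [hα] at hc1 hc2
  rw [hK] at hc2
  have e1 : (p + 2 - 2).factorial = p.factorial := by rw [Nat.add_sub_cancel]
  have e2 : (p + 2 - 1).factorial = (p + 1) * p.factorial := by
    rw [show p + 2 - 1 = p + 1 by omega, Nat.factorial_succ]
  have e3 : (p + 2).factorial = (p + 2) * ((p + 1) * p.factorial) := by
    rw [Nat.factorial_succ, Nat.factorial_succ]
  rw [e1, e3] at hc2
  rw [e2, e3] at hc1
  have hpf : 0 < p.factorial := Nat.factorial_pos p
  have hH : Nat.card H = p * ((p + 2) * (p + 1)) := by
    apply Nat.eq_of_mul_eq_mul_right hpf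
    rw [← hc2]; ring
  have hL : Nat.card (fixingSubgroup H ({a} : Set α)) = (p + 1) * p := by
    have h4 : 0 < (p + 2) * ((p + 1) * p.factorial) := by positivity
    apply Nat.eq_of_mul_eq_mul_right h4
    rw [hc1, hH]; ring
  have hgL : (⟨g, hg⟩ : H) ∈ fixingSubgroup H ({a} : Set α) := by
    rw [mem_fixingSubgroup_iff]
    rintro c rfl
    exact ha
  have hgK : (⟨g, hg⟩ : H) ∈ fixingSubgroup H ({a, b} : Set α) := by
    rw [mem_fixingSubgroup_iff]
    rintro c (rfl | rfl)
    · exact ha
    · exact hb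
  -- elements of `K` are powers of `g`
  have hKg : ∀ n : H, n ∈ fixingSubgroup H ({a, b} : Set α) → (n : Perm α) ∈ Subgroup.zpowers g := by
    intro n hn
    have h5 : Subgroup.zpowers (⟨g, hg⟩ : H) = fixingSubgroup H ({a, b} : Set α) := by
      apply Subgroup.eq_of_le_of_card_ge (Subgroup.zpowers_le.2 hgK)
      rw [hK, Nat.card_zpowers, Subgroup.orderOf_mk, hgo]
    rw [← h5] at hn
    obtain ⟨i, hi⟩ := Subgroup.mem_zpowers_iff.1 hn
    rw [Subgroup.mem_zpowers_iff]
    refine ⟨i, ?_⟩
    rw [← hi]
    simp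
  set x : fixingSubgroup H ({a} : Set α) := ⟨⟨g, hg⟩, hgL⟩ with hx
  have hxo : orderOf x = p := by
    rw [hx, Subgroup.orderOf_mk, Subgroup.orderOf_mk, hgo]
  apply not_six_dvd hL x hxo
  intro n hn
  obtain ⟨k, hk⟩ := Subgroup.mem_zpowers_iff.1 hn
  have hk' : g ^ k = (n.1.1 : Perm α) * g * (n.1.1)⁻¹ := by
    have := congrArg (fun t : fixingSubgroup H ({a} : Set α) => (t.1.1 : Perm α)) hk
    simpa [hx] using this
  have hna : (n.1.1 : Perm α) a = a := by
    have := n.2
    rw [mem_fixingSubgroup_iff] at this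
    exact this a rfl
  have hnb : (n.1.1 : Perm α) b = b := by
    -- g^k fixes n b
    have h6 : (g ^ k) ((n.1.1 : Perm α) b) = (n.1.1 : Perm α) b := by
      rw [hk']
      simp [Perm.mul_apply, hb]
    have h7 : orderOf (g ^ k) = p := by
      rw [hk', ← hgo]
      have := orderOf_injective (MulAut.conj (n.1.1 : Perm α)).toMonoidHom (MulAut.conj (n.1.1 : Perm α)).injective g
      exact this
    have h8 : g ∈ Subgroup.zpowers (g ^ k) := by
      have h9 : Subgroup.zpowers (g ^ k) = Subgroup.zpowers g := by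
        apply Subgroup.eq_of_le_of_card_ge (Subgroup.zpowers_le.2 (Subgroup.mem_zpowers_iff.2 ⟨k, rfl⟩))
        rw [Nat.card_zpowers, Nat.card_zpowers, h7, hgo]
      rw [h9]; exact Subgroup.mem_zpowers g
    obtain ⟨j, hj⟩ := Subgroup.mem_zpowers_iff.1 h8
    have h10 : g ((n.1.1 : Perm α) b) = (n.1.1 : Perm α) b := by
      have := Perm.zpow_apply_eq_self_of_apply_eq_self h6 j
      rwa [hj] at this
    rcases hfix _ h10 with h11 | h11
    · exfalso
      apply hab
      apply (n.1.1 : Perm α).injective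
      rw [hna, h11]
    · exact h11
  have hnK : n.1 ∈ fixingSubgroup H ({a, b} : Set α) := by
    rw [mem_fixingSubgroup_iff]
    rintro c (rfl | rfl)
    · exact hna
    · exact hnb
  obtain ⟨i, hi⟩ := Subgroup.mem_zpowers_iff.1 (hKg _ hnK)
  rw [Subgroup.mem_zpowers_iff]
  refine ⟨i, ?_⟩
  apply Subtype.ext
  apply Subtype.ext
  rw [← hi]
  simp [hx]

/-- **degree 7** -/
theorem eq_alternating_seven {H : Subgroup (Perm α)} (hα : Fintype.card α = 7)
    (hA : H ≤ alternatingGroup α) (hH : IsPreprimitive H α) {g : Perm α} (hgc : g.IsCycle)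
    (hgp : g.support.card = 5) (hg : g ∈ H) : H = alternatingGroup α := by
  have : Fact (Nat.Prime 5) := ⟨by norm_num⟩
  have h3 := three_transitive hH (p := 5) (by norm_num) hα hgc hgp hg
  obtain ⟨a, b, hab, ha, hb, hfix⟩ := exists_fixed (p := 5) hα hgp
  by_contra hne
  have hgo : orderOf g = 5 := by rw [hgc.orderOf, hgp]
  have h2 : IsMultiplyPretransitive H α 2 :=
    isMultiplyPretransitive_of_le (n := 3) (by norm_num) (by rw [Nat.card_eq_fintype_card, hα]; norm_num)
  have hc2 := card_fixing h2 ({a, b} : Set α) (Set.ncard_pair hab)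
  rw [hα] at hc2
  have hgK : (⟨g, hg⟩ : H) ∈ fixingSubgroup H ({a, b} : Set α) := by
    rw [mem_fixingSubgroup_iff]
    rintro c (rfl | rfl)
    · exact ha
    · exact hb
  have h5 : 5 ∣ Nat.card (fixingSubgroup H ({a, b} : Set α)) := by
    have h6 := Subgroup.orderOf_dvd_natCard (fixingSubgroup H ({a, b} : Set α)) hgK
    rwa [Subgroup.orderOf_mk, hgo] at h6
  -- the index in the alternating group
  have hnt : Nontrivial α := by
    rw [← Fintype.one_lt_card_iff_nontrivial, hα]; norm_num
  have hAc : Nat.card (alternatingGroup α) = 2520 := by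
    have h7 := two_mul_nat_card_alternatingGroup (α := α)
    rw [Nat.card_perm, Nat.card_eq_fintype_card (α := α), hα] at h7
    have h71 : (7 : ℕ).factorial = 5040 := by norm_num [Nat.factorial]
    rw [h71] at h7
    omega
  have e : alternatingGroup α ≃* alternatingGroup (Fin 7) :=
    Equiv.altCongrHom (Fintype.equivFinOfCardEq hα)
  have h8 := Cfsg.Agent.OddHalf.D5.Elem.le_index (r := 7) (by norm_num) e (H.subgroupOf (alternatingGroup α)) (by
    intro h
    apply hne
    exact le_antisymm hA (Subgroup.subgroupOf_eq_top.1 h))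
  have h9 : Nat.card H * (H.subgroupOf (alternatingGroup α)).index = 2520 := by
    rw [← hAc, ← Subgroup.card_mul_index (H.subgroupOf (alternatingGroup α))]
    congr 1
    exact Nat.card_congr (Subgroup.subgroupOfEquivOfLe hA).toEquiv.symm
  obtain ⟨k, hk⟩ := h5
  rw [hk] at hc2
  norm_num [Nat.factorial] at hc2
  have hk1 : k ≠ 0 := by
    rintro rfl
    have : 0 < Nat.card (fixingSubgroup H ({a, b} : Set α)) := Nat.card_pos
    omega
  have hk2 : k = 1 := by
    have h10 : Nat.card H = 210 * k := by omega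
    rw [h10] at h9
    have h11 : k * (H.subgroupOf (alternatingGroup α)).index = 12 := by nlinarith
    by_contra hk3
    have : 2 ≤ k := by omega
    nlinarith
  rw [hk2, mul_one] at hk
  exact not_six_dvd_of_card h3 hα hgc hgp hg hab ha hb hfix hk (by norm_num)

/-! ### degree 13 -/

theorem support_card_of_orderOf_five {s : Perm α} (hα : Fintype.card α = 13) (hs : orderOf s = 5) :
    s.support.card = 5 ∨ s.support.card = 10 := by
  obtain ⟨n, hn⟩ := Perm.cycleType_prime_order (σ := s) (by rw [hs]; norm_num)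
  have h1 := Perm.sum_cycleType s
  rw [hn, Multiset.sum_replicate, hs, smul_eq_mul] at h1
  have h2 := Finset.card_le_univ s.support
  rw [hα] at h2
  omega

theorem isCycle_of_support_card_five {s : Perm α} (hs : orderOf s = 5) (h : s.support.card = 5) : s.IsCycle := by
  apply Perm.isCycle_of_prime_order
  · rw [hs]; norm_num
  · rw [hs, h]; norm_num

/-- If a group contains a 5-element with support of size 5 it contains the alternating group. -/
theorem support_card_ten {H : Subgroup (Perm α)} (hα : Fintype.card α = 13)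
    (hH : IsPreprimitive H α) (hne : ¬ alternatingGroup α ≤ H) {s : Perm α} (hsH : s ∈ H)
    (hs : orderOf s = 5) : s.support.card = 10 := by
  rcases support_card_of_orderOf_five hα hs with h | h
  · exfalso
    apply hne
    exact Cfsg.Agent.S0713.result H hH (p := 5) (by norm_num) (by omega) (by omega)
      (isCycle_of_support_card_five hs h) h hsH
  · exact h

/-- the pigeonhole argument: `z` commutes with an element `s` of order `5` with two cycles; then `z ^ 10`
is trivial on the support of `s`. -/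
theorem pow_ten_apply {s z : Perm α} (hs : orderOf s = 5) (hs10 : s.support.card = 10)
    (hc : z * s = s * z) {v : α} (hv : s v ≠ v) : (z ^ 10) v = v := by
  have hcomm : Commute z s := hc
  -- key: if `z ^ m v = s ^ i v`, then `z ^ (5 m) v = v`
  have key : ∀ (m : ℕ) (i : ℤ), (z ^ m) v = (s ^ i) v → (z ^ (m * 5)) v = v := by
    intro m i h
    have h1 : ∀ n : ℕ, (z ^ (m * n)) v = (s ^ (i * n)) v := by
      intro n
      induction n with
      | zero => simp
      | succ n ih =>
        have e1 : z ^ (m * (n + 1)) = z ^ (m * n) * z ^ m := by rw [← pow_add]; ring_nf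
        have e2 : z ^ (m * n) * s ^ i = s ^ i * z ^ (m * n) := ((hcomm.pow_left _).zpow_right _).eq
        rw [e1, Perm.mul_apply, h, ← Perm.mul_apply, e2, Perm.mul_apply, ih, ← Perm.mul_apply, ← zpow_add]
        congr 2
        push_cast; ring
    rw [h1 5]
    have h2 : s ^ (i * (5 : ℕ)) = 1 := by
      rw [mul_comm, zpow_mul, zpow_natCast, ← hs, pow_orderOf_eq_one, one_zpow]
    rw [h2]; rfl
  have hzv : s (z v) ≠ z v := by
    intro h
    apply hv
    apply z.injective
    have h3 := congrArg (fun f : Perm α => f v) hc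
    simp only [Perm.mul_apply] at h3
    rw [h3, h]
  have hzzv : s (z (z v)) ≠ z (z v) := by
    intro h
    apply hzv
    apply z.injective
    have h3 := congrArg (fun f : Perm α => f (z v)) hc
    simp only [Perm.mul_apply] at h3
    rw [h3, h]
  by_cases c1 : Perm.SameCycle s v (z v)
  · obtain ⟨i, hi⟩ := c1
    have h4 := key 1 i (by rw [pow_one, hi])
    have h5 : z ^ 10 = z ^ (1 * 5) * z ^ (1 * 5) := by rw [← pow_add]
    rw [h5, Perm.mul_apply, h4, h4]
  by_cases c2 : Perm.SameCycle s v (z (z v))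
  · obtain ⟨i, hi⟩ := c2
    have h4 := key 2 i (by rw [hi, pow_two, Perm.mul_apply])
    exact h4
  exfalso
  have c3 : ¬ Perm.SameCycle s (z v) (z (z v)) := by
    rintro ⟨i, hi⟩
    apply c1
    refine ⟨i, ?_⟩
    apply z.injective
    rw [← hi, ← Perm.mul_apply, ← Perm.mul_apply, (hcomm.zpow_right i).eq]
  have hcard : ∀ w, s w ≠ w → (s.cycleOf w).support.card = 5 := by
    intro w hw
    have h1 : (s.cycleOf w).IsCycle := Perm.isCycle_cycleOf s hw
    rw [← h1.orderOf]
    have h2 : orderOf (s.cycleOf w) ∣ 5 := by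
      rw [← hs]; exact Perm.orderOf_cycleOf_dvd_orderOf s w
    rcases (Nat.dvd_prime (by norm_num)).1 h2 with h3 | h3
    · exfalso
      rw [orderOf_eq_one_iff, Perm.cycleOf_eq_one_iff] at h3
      exact hw h3
    · exact h3
  have hdisj : ∀ w w', ¬ Perm.SameCycle s w w' → _root_.Disjoint (s.cycleOf w).support (s.cycleOf w').support := by
    intro w w' h
    rw [Finset.disjoint_left]
    intro c hc1 hc2
    rw [Perm.mem_support_cycleOf_iff] at hc1 hc2
    exact h (hc1.1.trans hc2.1.symm)
  have hsub : ∀ w, (s.cycleOf w).support ⊆ s.support := fun w => Perm.support_cycleOf_le s w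
  have h6 : ((s.cycleOf v).support ∪ (s.cycleOf (z v)).support ∪ (s.cycleOf (z (z v))).support).card = 15 := by
    rw [Finset.card_union_of_disjoint, Finset.card_union_of_disjoint (hdisj _ _ c1), hcard v hv,
      hcard _ hzv, hcard _ hzzv]
    rw [Finset.disjoint_union_left]
    exact ⟨hdisj _ _ c2, hdisj _ _ c3⟩
  have h7 : ((s.cycleOf v).support ∪ (s.cycleOf (z v)).support ∪ (s.cycleOf (z (z v))).support) ⊆ s.support :=
    Finset.union_subset (Finset.union_subset (hsub _) (hsub _)) (hsub _)
  have h8 := Finset.card_le_card h7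
  omega

end Cfsg.Agent.H529.TwinCycle
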