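import Mathlib
import Cfsg.Agent.OddOrderLocal.PiParts

/-!
`π`-elements of finite groups: a uniform exponent `e` such that `g ↦ g ^ e` is the `π`-part,
the count `|G| * k_π(G) = #{commuting pairs (g, h) with g a π-element}`, and the inequality
`k_π(G) ≤ k_π(N) * k_π(G/N)`.
-/

set_option autoImplicit false

namespace Cfsg.Agent.H529.PiElem

/-- `g` is a `π`-element. -/
def IsPiEl (π : Set ℕ) {G : Type*} [Group G] (g : G) : Prop :=
  ∀ q : ℕ, q.Prime → q ∣ orderOf g → q ∈ π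

/-- `e` is a `π`-exponent for `G` if `g ↦ g ^ e` is the `π`-part. -/
def IsPiExp (π : Set ℕ) (e : ℕ) (G : Type*) [Group G] : Prop :=
  (∀ g : G, IsPiEl π (g ^ e)) ∧ ∀ g : G, IsPiEl π g → g ^ e = g

/-- a uniform `π`-exponent for all groups of order dividing `n`. -/
theorem exists_piExp (π : Set ℕ) {n : ℕ} (hn : n ≠ 0) :
    ∃ e : ℕ, (∀ (G : Type*) [Group G], Nat.card G ∣ n → IsPiExp π e G) := by
  obtain ⟨a, b, hab, hcop, ha, hb⟩ := OddOrderLocal.PiParts.exists_nat_parts π hn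
  obtain ⟨e, he1, he0⟩ := Nat.chineseRemainder hcop 1 0
  refine ⟨e, ?_⟩
  intro G _ hG
  constructor
  · intro g q hq hqd
    apply ha q hq
    refine hqd.trans (orderOf_dvd_of_pow_eq_one ?_)
    rw [← pow_mul, ← orderOf_dvd_iff_pow_eq_one]
    have h1 : orderOf g ∣ a * b := by rw [← hab]; exact (orderOf_dvd_natCard g).trans hG
    refine h1.trans ?_
    rw [mul_comm a b]
    exact Nat.mul_dvd_mul_right ((Nat.modEq_zero_iff_dvd).1 he0) a
  · intro g hg
    have h1 : orderOf g ∣ a * b := by rw [← hab]; exact (orderOf_dvd_natCard g).trans hG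
    have h2 : Nat.Coprime (orderOf g) b := by
      rw [Nat.coprime_iff_gcd_eq_one]
      by_contra hne
      obtain ⟨p, hp, hpd⟩ := Nat.exists_prime_and_dvd hne
      exact hb p hp (hpd.trans (Nat.gcd_dvd_right _ _)) (hg p hp (hpd.trans (Nat.gcd_dvd_left _ _)))
    have h3 : orderOf g ∣ a := h2.dvd_of_dvd_mul_right h1
    have h4 : g ^ e = g ^ 1 := pow_eq_pow_iff_modEq.2 (he1.of_dvd h3)
    rwa [pow_one] at h4

theorem isPiEl_conj (π : Set ℕ) {G : Type*} [Group G] {g x : G} (h : IsPiEl π g) :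
    IsPiEl π (x * g * x⁻¹) := by
  intro q hq hqd
  apply h q hq
  have : orderOf (x * g * x⁻¹) = orderOf g := by
    have := orderOf_injective (MulAut.conj x).toMonoidHom (MulAut.conj x).injective g
    simpa using this
  rwa [this] at hqd

theorem isPiEl_map (π : Set ℕ) {G H : Type*} [Group G] [Group H] (f : G →* H) {g : G}
    (h : IsPiEl π g) : IsPiEl π (f g) := by
  intro q hq hqd
  exact h q hq (hqd.trans (orderOf_map_dvd f g))

theorem isPiEl_coe (π : Set ℕ) {G : Type*} [Group G] {N : Subgroup G} {n : N} :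
    IsPiEl π (n : G) ↔ IsPiEl π n := by
  unfold IsPiEl
  rw [Subgroup.orderOf_coe]

/-- the type of classes of `π`-elements -/
abbrev PiClasses (π : Set ℕ) (G : Type*) [Group G] : Type _ :=
  {C : ConjClasses G // ∀ q : ℕ, q.Prime → (∃ g : G, ConjClasses.mk g = C ∧ q ∣ orderOf g) → q ∈ π}

theorem mem_piClasses_iff (π : Set ℕ) {G : Type*} [Group G] (g : G) :
    (∀ q : ℕ, q.Prime → (∃ g' : G, ConjClasses.mk g' = ConjClasses.mk g ∧ q ∣ orderOf g') → q ∈ π) ↔
      IsPiEl π g := by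
  constructor
  · intro h q hq hqd
    exact h q hq ⟨g, rfl, hqd⟩
  · rintro h q hq ⟨g', hg', hqd⟩
    rw [ConjClasses.mk_eq_mk_iff_isConj, isConj_iff] at hg'
    obtain ⟨c, hc⟩ := hg'
    apply h q hq
    have : orderOf g = orderOf g' := by
      rw [← hc]
      have := orderOf_injective (MulAut.conj c).toMonoidHom (MulAut.conj c).injective g'
      simpa using this
    rw [this]
    exact hqd

/-- commuting pairs with first entry a `π`-element -/
abbrev PiPairs (π : Set ℕ) (G : Type*) [Group G] : Type _ :=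
  {p : G × G // IsPiEl π p.1 ∧ p.1 * p.2 = p.2 * p.1}

/-- **The number of commuting pairs `(g, h)` with `g` a `π`-element is `k_π(G) * |G|`.** -/
theorem card_piPairs (π : Set ℕ) (G : Type*) [Group G] :
    Nat.card (PiPairs π G) = Nat.card (PiClasses π G) * Nat.card G := by
  classical
  rw [← Nat.card_prod]
  -- representatives
  have hrep : ∀ C : ConjClasses G, ∃ g : G, ConjClasses.mk g = C := fun C => C.exists_rep
  choose r hr using hrep
  have htr : ∀ g : G, ∃ t : G, t * r (ConjClasses.mk g) * t⁻¹ = g := by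
    intro g
    have h1 : ConjClasses.mk (r (ConjClasses.mk g)) = ConjClasses.mk g := hr _
    rw [ConjClasses.mk_eq_mk_iff_isConj, isConj_iff] at h1
    exact h1
  choose t ht using htr
  refine Nat.card_congr ⟨fun p => ⟨⟨ConjClasses.mk p.1.1, (mem_piClasses_iff π p.1.1).2 p.2.1⟩,
      p.1.2 * t p.1.1⟩, fun q => ⟨(q.2 * r q.1.1 * q.2⁻¹, q.2 * (t (q.2 * r q.1.1 * q.2⁻¹))⁻¹), ?_, ?_⟩, ?_, ?_⟩
  · apply isPiEl_conj
    have := q.1.2
    rw [← hr q.1.1] at this
    exact (mem_piClasses_iff π _).1 this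
  · have h1 : ConjClasses.mk (q.2 * r q.1.1 * q.2⁻¹) = q.1.1 := by
      conv_rhs => rw [← hr q.1.1]
      rw [ConjClasses.mk_eq_mk_iff_isConj, isConj_iff]
      exact ⟨q.2⁻¹, by group⟩
    have h2 := ht (q.2 * r q.1.1 * q.2⁻¹)
    rw [h1] at h2
    set z := q.2
    set ρ := r q.1.1
    set T := t (z * ρ * z⁻¹)
    show z * ρ * z⁻¹ * (z * T⁻¹) = z * T⁻¹ * (z * ρ * z⁻¹)
    have h3 : T⁻¹ * (z * ρ * z⁻¹) = ρ * T⁻¹ := by
      rw [← h2]; group
    calc z * ρ * z⁻¹ * (z * T⁻¹) = z * (ρ * T⁻¹) := by group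
      _ = z * (T⁻¹ * (z * ρ * z⁻¹)) := by rw [h3]
      _ = _ := by group
  · rintro ⟨⟨g, h⟩, hg, hc⟩
    simp only at hg hc
    apply Subtype.ext
    have e1 : h * t g * r (ConjClasses.mk g) * (h * t g)⁻¹ = g := by
      calc h * t g * r (ConjClasses.mk g) * (h * t g)⁻¹
          = h * (t g * r (ConjClasses.mk g) * (t g)⁻¹) * h⁻¹ := by group
        _ = h * g * h⁻¹ := by rw [ht g]
        _ = g := by rw [← hc]; group
    show (h * t g * r (ConjClasses.mk g) * (h * t g)⁻¹,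
      h * t g * (t (h * t g * r (ConjClasses.mk g) * (h * t g)⁻¹))⁻¹) = (g, h)
    rw [e1]
    refine Prod.ext rfl ?_
    show h * t g * (t g)⁻¹ = h
    group
  · rintro ⟨⟨C, hC⟩, z⟩
    have h1 : ConjClasses.mk (z * r C * z⁻¹) = C := by
      conv_rhs => rw [← hr C]
      rw [ConjClasses.mk_eq_mk_iff_isConj, isConj_iff]
      exact ⟨z⁻¹, by group⟩
    refine Prod.ext (Subtype.ext h1) ?_
    show z * (t (z * r C * z⁻¹))⁻¹ * t (z * r C * z⁻¹) = z
    group

/-- In a coset `xN` the number of pairs `(g, n)`, `g ∈ xN` a `π`-element, `n ∈ N`, commuting, is at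
most the number of commuting pairs `(v, w)` in `N` with `v` a `π`-element. -/
theorem coset_count (π : Set ℕ) (G : Type*) [Group G] [Finite G] (N : Subgroup G) [N.Normal]
    (x : G ⧸ N) :
    Nat.card {p : G × N // ((p.1 : G) : G ⧸ N) = x ∧ IsPiEl π p.1 ∧ p.1 * p.2 = p.2 * p.1} ≤
      Nat.card (PiPairs π N) := by
  classical
  obtain ⟨e, he⟩ := exists_piExp (π := π) (n := Nat.card G) (Nat.card_pos).ne'
  have heG : IsPiExp π e G := he G dvd_rfl
  have heN : IsPiExp π e N := he N (Subgroup.card_subgroup_dvd_card N)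
  -- choice of `z0 v` in the coset commuting with `v`
  let z0 : N → G := fun v => if h : ∃ z : G, (z : G ⧸ N) = x ∧ z * v = v * z then h.choose else 1
  have hz0 : ∀ (v : N) (z : G), (z : G ⧸ N) = x → z * v = v * z →
      ((z0 v : G) : G ⧸ N) = x ∧ z0 v * v = v * z0 v := by
    intro v z hz hzv
    have h : ∃ z : G, (z : G ⧸ N) = x ∧ z * v = v * z := ⟨z, hz, hzv⟩
    simp only [z0, dif_pos h]
    exact h.choose_spec
  -- the key data for `(g, n)`
  have key : ∀ p : {p : G × N // ((p.1 : G) : G ⧸ N) = x ∧ IsPiEl π p.1 ∧ p.1 * p.2 = p.2 * p.1},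
      ∃ z : G, z = p.1.1 * (p.1.2 : G) * ((p.1.2 : G) ^ e)⁻¹ ∧ (z : G ⧸ N) = x ∧
        z * (p.1.2 ^ e : N) = (p.1.2 ^ e : N) * z ∧ z ^ e = p.1.1 := by
    rintro ⟨⟨g, n⟩, hg, hgπ, hc⟩
    simp only at hg hgπ hc
    refine ⟨_, rfl, ?_, ?_, ?_⟩
    · simp only
      rw [mul_assoc, QuotientGroup.mk_mul, hg]
      have : (((n : G) * ((n : G) ^ e)⁻¹ : G) : G ⧸ N) = 1 := by
        rw [QuotientGroup.eq_one_iff]
        exact N.mul_mem n.2 (N.inv_mem (N.pow_mem n.2 e))
      rw [this, mul_one]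
    · simp only
      have c1 : Commute g (n : G) := hc
      have c2 : Commute g ((n : G) ^ e) := c1.pow_right e
      have c3 : Commute (n : G) ((n : G) ^ e) := (Commute.refl _).pow_right e
      have c4 : Commute (g * (n : G) * ((n : G) ^ e)⁻¹) ((n : G) ^ e) :=
        (c2.mul_left c3).mul_left ((Commute.refl _).inv_left)
      have := c4.eq
      rw [Subgroup.coe_pow]
      exact this
    · simp only
      have c1 : Commute g (n : G) := hc
      have c2 : Commute g ((n : G) ^ e) := c1.pow_right e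
      have c3 : Commute (n : G) ((n : G) ^ e) := (Commute.refl _).pow_right e
      have c5 : Commute (g * (n : G)) (((n : G) ^ e)⁻¹) := (c2.mul_left c3).inv_right
      rw [c5.mul_pow, c1.mul_pow, heG.2 g hgπ, inv_pow]
      have h5 : ((n : G) ^ e) ^ e = (n : G) ^ e := heG.2 _ (heG.1 _)
      rw [h5]
      group
  choose z hz1 hz2 hz3 hz4 using key
  let F : {p : G × N // ((p.1 : G) : G ⧸ N) = x ∧ IsPiEl π p.1 ∧ p.1 * p.2 = p.2 * p.1} → PiPairs π N :=
    fun p => ⟨(p.1.2 ^ e, ⟨(z0 (p.1.2 ^ e))⁻¹ * z p, by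
      have h1 := hz0 (p.1.2 ^ e) (z p) (hz2 p) (hz3 p)
      rw [← QuotientGroup.eq_one_iff, QuotientGroup.mk_mul, QuotientGroup.mk_inv, h1.1, hz2 p]
      group⟩), heN.1 _, by
      have h1 := hz0 (p.1.2 ^ e) (z p) (hz2 p) (hz3 p)
      apply Subtype.ext
      show ((p.1.2 ^ e : N) : G) * ((z0 (p.1.2 ^ e))⁻¹ * z p) = (z0 (p.1.2 ^ e))⁻¹ * z p * ((p.1.2 ^ e : N) : G)
      have c1 : Commute ((p.1.2 ^ e : N) : G) (z0 (p.1.2 ^ e)) := h1.2.symm
      have c2 : Commute ((p.1.2 ^ e : N) : G) (z p) := (hz3 p).symm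
      exact (c1.inv_right.mul_right c2).eq⟩
  have hF : Function.Injective F := by
    intro p q hpq
    have h1 : p.1.2 ^ e = q.1.2 ^ e := congrArg (fun y : PiPairs π N => y.1.1) hpq
    have h2 : (z0 (p.1.2 ^ e))⁻¹ * z p = (z0 (q.1.2 ^ e))⁻¹ * z q :=
      congrArg (fun y : PiPairs π N => ((y.1.2 : N) : G)) hpq
    rw [h1] at h2
    have h3 : z p = z q := mul_left_cancel h2
    have h4 : p.1.1 = q.1.1 := by rw [← hz4 p, ← hz4 q, h3]
    have h5 : p.1.1 * (p.1.2 : G) * ((p.1.2 : G) ^ e)⁻¹ = q.1.1 * (q.1.2 : G) * ((q.1.2 : G) ^ e)⁻¹ := by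
      rw [← hz1 p, ← hz1 q, h3]
    have h6 : ((p.1.2 : G) ^ e) = ((q.1.2 : G) ^ e) := by
      have := congrArg (fun y : N => (y : G)) h1
      simpa using this
    rw [h6, h4] at h5
    have h7 : (p.1.2 : G) = (q.1.2 : G) := mul_left_cancel (mul_right_cancel h5)
    apply Subtype.ext
    exact Prod.ext h4 (Subtype.ext h7)
  exact Nat.card_le_card_of_injective F hF

/-- **`k_π(G) ≤ k_π(N) * k_π(G/N)`.** -/
theorem piClasses_le (π : Set ℕ) (G : Type*) [Group G] [Finite G] (N : Subgroup G) [N.Normal] :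
    Nat.card (PiClasses π G) ≤ Nat.card (PiClasses π N) * Nat.card (PiClasses π (G ⧸ N)) := by
  classical
  -- the map on pairs
  let f : PiPairs π G → PiPairs π (G ⧸ N) := fun p => ⟨((p.1.1 : G ⧸ N), (p.1.2 : G ⧸ N)),
    isPiEl_map π (QuotientGroup.mk' N) p.2.1, by
      show (p.1.1 : G ⧸ N) * (p.1.2 : G ⧸ N) = (p.1.2 : G ⧸ N) * (p.1.1 : G ⧸ N)
      rw [← QuotientGroup.mk_mul, p.2.2, QuotientGroup.mk_mul]⟩
  have hfib : ∀ q : PiPairs π (G ⧸ N), Nat.card {p : PiPairs π G // f p = q} ≤ Nat.card (PiPairs π N) := by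
    intro q
    refine le_trans ?_ (coset_count π G N q.1.1)
    -- choose h0 g
    let h0 : G → G := fun g => if h : ∃ z : G, (z : G ⧸ N) = q.1.2 ∧ g * z = z * g then h.choose else 1
    have hh0 : ∀ (g z : G), (z : G ⧸ N) = q.1.2 → g * z = z * g →
        ((h0 g : G) : G ⧸ N) = q.1.2 ∧ g * h0 g = h0 g * g := by
      intro g z hz hzv
      have h : ∃ z : G, (z : G ⧸ N) = q.1.2 ∧ g * z = z * g := ⟨z, hz, hzv⟩
      simp only [h0, dif_pos h]
      exact h.choose_spec
    have hq1 : ∀ p : {p : PiPairs π G // f p = q}, (p.1.1.1 : G ⧸ N) = q.1.1 := by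
      intro p
      exact congrArg (fun y : PiPairs π (G ⧸ N) => y.1.1) p.2
    have hq2 : ∀ p : {p : PiPairs π G // f p = q}, (p.1.1.2 : G ⧸ N) = q.1.2 := by
      intro p
      exact congrArg (fun y : PiPairs π (G ⧸ N) => y.1.2) p.2
    let F : {p : PiPairs π G // f p = q} →
        {p : G × N // ((p.1 : G) : G ⧸ N) = q.1.1 ∧ IsPiEl π p.1 ∧ p.1 * p.2 = p.2 * p.1} :=
      fun p => ⟨(p.1.1.1, ⟨(h0 p.1.1.1)⁻¹ * p.1.1.2, by
        have h1 := hh0 p.1.1.1 p.1.1.2 (hq2 p) p.1.2.2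
        rw [← QuotientGroup.eq_one_iff, QuotientGroup.mk_mul, QuotientGroup.mk_inv, h1.1, hq2 p]
        group⟩), hq1 p, p.1.2.1, by
        have h1 := hh0 p.1.1.1 p.1.1.2 (hq2 p) p.1.2.2
        show p.1.1.1 * ((h0 p.1.1.1)⁻¹ * p.1.1.2) = (h0 p.1.1.1)⁻¹ * p.1.1.2 * p.1.1.1
        have c1 : Commute p.1.1.1 (h0 p.1.1.1) := h1.2
        have c2 : Commute p.1.1.1 p.1.1.2 := p.1.2.2
        exact (c1.inv_right.mul_right c2).eq⟩
    have hF : Function.Injective F := by
      intro a b hab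
      have h1 : a.1.1.1 = b.1.1.1 := congrArg (fun y => y.1.1) hab
      have h2 : (h0 a.1.1.1)⁻¹ * a.1.1.2 = (h0 b.1.1.1)⁻¹ * b.1.1.2 := congrArg (fun y => ((y.1.2 : N) : G)) hab
      rw [h1] at h2
      have h3 : a.1.1.2 = b.1.1.2 := mul_left_cancel h2
      exact Subtype.ext (Subtype.ext (Prod.ext h1 h3))
    exact Nat.card_le_card_of_injective F hF
  have htot : Nat.card (PiPairs π G) ≤ Nat.card (PiPairs π (G ⧸ N)) * Nat.card (PiPairs π N) := by
    have : Fintype (PiPairs π (G ⧸ N)) := Fintype.ofFinite _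
    have h1 : Nat.card (PiPairs π G) = ∑ q : PiPairs π (G ⧸ N), Nat.card {p : PiPairs π G // f p = q} := by
      rw [← Nat.card_sigma]
      exact Nat.card_congr (Equiv.sigmaFiberEquiv f).symm
    rw [h1]
    calc ∑ q : PiPairs π (G ⧸ N), Nat.card {p : PiPairs π G // f p = q}
        ≤ ∑ q : PiPairs π (G ⧸ N), Nat.card (PiPairs π N) := Finset.sum_le_sum (fun q _ => hfib q)
      _ = _ := by rw [Finset.sum_const, smul_eq_mul, Finset.card_univ, ← Nat.card_eq_fintype_card]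
  rw [card_piPairs, card_piPairs, card_piPairs] at htot
  have hG : Nat.card G = Nat.card (G ⧸ N) * Nat.card N := Subgroup.card_eq_card_quotient_mul_card_subgroup N
  have hpos : 0 < Nat.card G := Nat.card_pos
  refine Nat.le_of_mul_le_mul_right ?_ hpos
  calc Nat.card (PiClasses π G) * Nat.card G
      ≤ Nat.card (PiClasses π (G ⧸ N)) * Nat.card (G ⧸ N) * (Nat.card (PiClasses π N) * Nat.card N) := htot
    _ = Nat.card (PiClasses π N) * Nat.card (PiClasses π (G ⧸ N)) * Nat.card G := by rw [hG]; ring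

end Cfsg.Agent.H529.PiElem
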