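import Mathlib
import Cfsg.Agent.S0713

/-!
# Groups generated by an element of order `p` and a `q`-cycle on at most `min (p + q - 1) (2 q - 1)` points
-/

set_option autoImplicit false

namespace Cfsg.Agent.H529.TwoCycles

open Equiv MulAction SubMulAction

variable {α : Type*} [Fintype α] [DecidableEq α]

/-- the cycles of an element of prime order have that length -/
theorem card_support_cycleOf {x : Perm α} {p : ℕ} (hp : p.Prime) (hx : orderOf x = p) {a : α}
    (ha : x a ≠ a) : (x.cycleOf a).support.card = p := by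
  have h1 : (x.cycleOf a).IsCycle := Perm.isCycle_cycleOf x ha
  rw [← h1.orderOf]
  have h2 : orderOf (x.cycleOf a) ∣ p := by
    rw [← hx]; exact Perm.orderOf_cycleOf_dvd_orderOf x a
  rcases (Nat.dvd_prime hp).1 h2 with h3 | h3
  · exfalso
    rw [orderOf_eq_one_iff, Perm.cycleOf_eq_one_iff] at h3
    exact ha h3
  · exact h3

/-- every point is moved by the group into the support of the cycle `y` -/
theorem exists_mem_support {x y : Perm α} {p q : ℕ}
    (hp : p.Prime) (hx : orderOf x = p) (hy : y.support.card = q)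
    (hcov : ∀ a, x a ≠ a ∨ y a ≠ a) (hpq : Fintype.card α < p + q)
    {H : Subgroup (Perm α)} (hxH : x ∈ H) (a : α) : ∃ h ∈ H, y (h a) ≠ h a := by
  by_cases hya : y a = a
  · have hxa : x a ≠ a := (hcov a).resolve_right (fun h => h hya)
    have h1 := card_support_cycleOf hp hx hxa
    have h2 : ¬ Disjoint (x.cycleOf a).support y.support := by
      intro hd
      have h3 := Finset.card_union_of_disjoint hd
      have h4 := Finset.card_le_univ ((x.cycleOf a).support ∪ y.support)
      omega
    rw [Finset.not_disjoint_iff] at h2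
    obtain ⟨b, hb1, hb2⟩ := h2
    rw [Perm.mem_support_cycleOf_iff] at hb1
    obtain ⟨⟨i, hi⟩, _⟩ := hb1
    refine ⟨x ^ i, H.zpow_mem hxH i, ?_⟩
    rw [hi]
    exact Perm.mem_support.1 hb2
  · exact ⟨1, H.one_mem, hya⟩

theorem isPretransitive {x y : Perm α} {p q : ℕ}
    (hp : p.Prime) (hx : orderOf x = p) (hyc : y.IsCycle) (hy : y.support.card = q)
    (hcov : ∀ a, x a ≠ a ∨ y a ≠ a) (hpq : Fintype.card α < p + q)
    {H : Subgroup (Perm α)} (hxH : x ∈ H) (hyH : y ∈ H) : IsPretransitive H α := by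
  refine ⟨fun a b => ?_⟩
  obtain ⟨h1, h1H, h1a⟩ := exists_mem_support hp hx hy hcov hpq hxH a
  obtain ⟨h2, h2H, h2b⟩ := exists_mem_support hp hx hy hcov hpq hxH b
  obtain ⟨i, hi⟩ := hyc.sameCycle h1a h2b
  refine ⟨⟨h2⁻¹ * (y ^ i * h1), H.mul_mem (H.inv_mem h2H) (H.mul_mem (H.zpow_mem hyH i) h1H)⟩, ?_⟩
  show (h2⁻¹ * (y ^ i * h1)) a = b
  rw [Perm.mul_apply, Perm.mul_apply, hi]
  simp

/-- a transitive group containing a cycle of prime length more than half the degree is primitive -/
theorem isPreprimitive_of_cycle {y : Perm α} {q : ℕ} (hq : q.Prime) (hyc : y.IsCycle)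
    (hy : y.support.card = q) (h2q : Fintype.card α < 2 * q) {H : Subgroup (Perm α)}
    (hH : IsPretransitive H α) (hyH : y ∈ H) : IsPreprimitive H α := by
  have h1 := Equiv.Perm.isPretransitive_of_isCycle_mem hyc hyH
  have h2 : Nat.card (ofFixingSubgroup H ((y.support : Set α)ᶜ)) = q := by
    have h3 : Nat.card (ofFixingSubgroup H ((y.support : Set α)ᶜ)) =
        (((y.support : Set α)ᶜ)ᶜ).ncard := Nat.card_coe_set_eq _
    rw [h3, compl_compl, Set.ncard_coe_finset, hy]
  have h3 : IsPreprimitive (fixingSubgroup H ((y.support : Set α)ᶜ))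
      (ofFixingSubgroup H ((y.support : Set α)ᶜ)) := by
    apply IsPreprimitive.of_prime_card
    rw [h2]; exact hq
  let f : (ofFixingSubgroup H ((y.support : Set α)ᶜ)) →ₑ[((↑) : fixingSubgroup H ((y.support : Set α)ᶜ) → H)] α :=
    { toFun := fun a => a.1
      map_smul' := fun m a => rfl }
  have h4 : (Set.range f).ncard = q := by
    have h5 : Set.range f = ((y.support : Set α)ᶜ)ᶜ := by
      ext a
      constructor
      · rintro ⟨b, rfl⟩
        exact b.2
      · intro ha
        exact ⟨⟨a, ha⟩, rfl⟩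
    rw [h5, compl_compl, Set.ncard_coe_finset, hy]
  apply IsPreprimitive.of_card_lt (f := f)
  rw [h4, Nat.card_eq_fintype_card]
  exact h2q

end Cfsg.Agent.H529.TwoCycles
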