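import Mathlib

/-!
# At least `k` primes in `(n, 2 n]`

* `centralBinom_le`: `centralBinom n ≤ (2 n) ^ #(primes in (n, 2n]) * (2 n) ^ sqrt (2 n) * 4 ^ (2 n / 3)`.
* `three_le_card`: there are at least three primes in `(n, 2 n]` for `n ≥ 1024`.
* `exists_two_primes`: for `m ≥ 17` there are primes `p`, `q` with `m < 2 p`, `p + 3 ≤ q ≤ m`.
-/

set_option autoImplicit false

namespace Cfsg.Agent.H529.ManyPrimes

open Nat

/-- the primes in `(n, 2 n]` -/
def T (n : ℕ) : Finset ℕ := (Finset.Ioc n (2 * n)).filter Nat.Prime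

theorem mem_T {n p : ℕ} : p ∈ T n ↔ (n < p ∧ p ≤ 2 * n) ∧ p.Prime := by
  simp [T]

/-- **Erdős' bound with the primes in `(n, 2n]` counted.** -/
theorem centralBinom_le (n : ℕ) (n_large : 2 < n) :
    centralBinom n ≤ (2 * n) ^ (T n).card * ((2 * n) ^ sqrt (2 * n) * 4 ^ (2 * n / 3)) := by
  classical
  have n_pos : 0 < n := (Nat.zero_le _).trans_lt n_large
  have n2_pos : 1 ≤ 2 * n := mul_pos (zero_lt_two' ℕ) n_pos
  let f : ℕ → ℕ := fun x => x ^ n.centralBinom.factorization x
  have hf0 : centralBinom n = ∏ p ∈ Finset.range (2 * n + 1), f p := (n.prod_pow_factorization_centralBinom).symm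
  -- only primes
  have hf1 : ∏ p ∈ Finset.range (2 * n + 1), f p = ∏ p ∈ (Finset.range (2 * n + 1)).filter Nat.Prime, f p := by
    symm
    refine Finset.prod_filter_of_ne fun p _ h => ?_
    contrapose h; dsimp only [f]
    rw [factorization_eq_zero_of_not_prime n.centralBinom h, _root_.pow_zero]
  -- split off the primes in (n, 2n]
  have hf2 : ∏ p ∈ (Finset.range (2 * n + 1)).filter Nat.Prime, f p =
      (∏ p ∈ ((Finset.range (2 * n + 1)).filter Nat.Prime).filter (n < ·), f p) *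
      (∏ p ∈ ((Finset.range (2 * n + 1)).filter Nat.Prime).filter (¬ n < ·), f p) :=
    (Finset.prod_filter_mul_prod_filter_not _ _ _).symm
  have hT : ((Finset.range (2 * n + 1)).filter Nat.Prime).filter (n < ·) = T n := by
    ext p
    rw [Finset.mem_filter, Finset.mem_filter, Finset.mem_range, mem_T]
    constructor
    · rintro ⟨⟨h1, h2⟩, h3⟩
      exact ⟨⟨h3, by omega⟩, h2⟩
    · rintro ⟨⟨h1, h2⟩, h3⟩
      exact ⟨⟨by omega, h3⟩, h1⟩
  have hle1 : ∏ p ∈ T n, f p ≤ (2 * n) ^ (T n).card := by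
    refine (Finset.prod_le_prod' fun p _ => (?_ : f p ≤ 2 * n)).trans ?_
    · exact pow_factorization_choose_le (mul_pos two_pos n_pos)
    · rw [Finset.prod_const]
  -- the small primes
  set S := (Finset.range (2 * n / 3 + 1)).filter Nat.Prime with hS
  have hsmall : ∏ p ∈ ((Finset.range (2 * n + 1)).filter Nat.Prime).filter (¬ n < ·), f p = ∏ p ∈ S, f p := by
    symm
    apply Finset.prod_subset
    · intro p hp
      rw [hS, Finset.mem_filter, Finset.mem_range] at hp
      rw [Finset.mem_filter, Finset.mem_filter, Finset.mem_range]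
      refine ⟨⟨?_, hp.2⟩, ?_⟩ <;> omega
    · intro p hp hpS
      rw [Finset.mem_filter, Finset.mem_filter, Finset.mem_range] at hp
      have h1 : 2 * n < 3 * p := by
        by_contra hcon
        apply hpS
        rw [hS, Finset.mem_filter, Finset.mem_range]
        refine ⟨?_, hp.1.2⟩
        omega
      show p ^ n.centralBinom.factorization p = 1
      rw [factorization_centralBinom_of_two_mul_self_lt_three_mul n_large (by omega) h1, Nat.pow_zero]
  have hle2 : ∏ p ∈ S, f p ≤ (2 * n) ^ sqrt (2 * n) * 4 ^ (2 * n / 3) := by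
    rw [← Finset.prod_filter_mul_prod_filter_not S (· ≤ sqrt (2 * n))]
    apply mul_le_mul'
    · refine (Finset.prod_le_prod' fun p _ => (?_ : f p ≤ 2 * n)).trans ?_
      · exact pow_factorization_choose_le (mul_pos two_pos n_pos)
      have : (Finset.Icc 1 (sqrt (2 * n))).card = sqrt (2 * n) := by rw [card_Icc, Nat.add_sub_cancel]
      rw [Finset.prod_const]
      refine pow_right_mono₀ n2_pos ((Finset.card_le_card fun x hx => ?_).trans this.le)
      obtain ⟨h1, h2⟩ := Finset.mem_filter.1 hx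
      exact Finset.mem_Icc.mpr ⟨(Finset.mem_filter.1 h1).2.one_lt.le, h2⟩
    · refine le_trans ?_ (primorial_le_four_pow (2 * n / 3))
      refine (Finset.prod_le_prod' fun p hp => (?_ : f p ≤ p)).trans ?_
      · obtain ⟨h1, h2⟩ := Finset.mem_filter.1 hp
        refine (pow_right_mono₀ (Finset.mem_filter.1 h1).2.one_lt.le ?_).trans (pow_one p).le
        exact Nat.factorization_choose_le_one (sqrt_lt'.mp <| not_le.1 h2)
      refine Finset.prod_le_prod_of_subset_of_one_le' (Finset.filter_subset _ _) ?_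
      exact fun p hp _ => (Finset.mem_filter.1 hp).2.one_lt.le
  rw [hf0, hf1, hf2, hT, hsmall]
  exact Nat.mul_le_mul hle1 hle2

theorem aux_pow (k : ℕ) (hk : 11 ≤ k) : (16 * k + 21) ^ 2 ≤ 25 * 2 ^ k := by
  induction k, hk using Nat.le_induction with
  | base => norm_num
  | succ k hk ih =>
    have h1 : (16 * (k + 1) + 21) ^ 2 ≤ 2 * (16 * k + 21) ^ 2 := by nlinarith
    calc (16 * (k + 1) + 21) ^ 2 ≤ 2 * (16 * k + 21) ^ 2 := h1
      _ ≤ 2 * (25 * 2 ^ k) := Nat.mul_le_mul_left _ ih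
      _ = 25 * 2 ^ (k + 1) := by ring

theorem main_inequality {n : ℕ} (hn : 1024 ≤ n) :
    n * ((2 * n) ^ 2 * ((2 * n) ^ sqrt (2 * n) * 4 ^ (2 * n / 3))) ≤ 4 ^ n := by
  set N := 2 * n with hN
  set s := sqrt N with hs
  set k := Nat.log 2 N with hk
  have hN0 : N ≠ 0 := by omega
  have hk1 : 2 ^ k ≤ N := Nat.pow_log_le_self 2 hN0
  have hk2 : N < 2 ^ (k + 1) := Nat.lt_pow_succ_log_self (by norm_num) N
  have hk11 : 11 ≤ k := by
    by_contra hcon
    have : 2 ^ (k + 1) ≤ 2 ^ 11 := Nat.pow_le_pow_right (by norm_num) (by omega)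
    omega
  have hs1 : s * s ≤ N := Nat.sqrt_le N
  have hs2 : N < (s + 1) * (s + 1) := Nat.lt_succ_sqrt N
  have hs45 : 45 ≤ s := by
    by_contra hcon
    have : (s + 1) * (s + 1) ≤ 45 * 45 := Nat.mul_le_mul (by omega) (by omega)
    omega
  have h5 : 16 * (k + 1) ≤ 5 * s := by
    by_contra hcon
    have h6 : 5 * (s + 1) < 16 * k + 21 := by omega
    have h7 : (5 * (s + 1)) ^ 2 < (16 * k + 21) ^ 2 := Nat.pow_lt_pow_left h6 (by norm_num)
    have h8 := aux_pow k hk11
    have h9 : 25 * ((s + 1) * (s + 1)) < 25 * 2 ^ k := by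
      calc 25 * ((s + 1) * (s + 1)) = (5 * (s + 1)) ^ 2 := by ring
        _ < (16 * k + 21) ^ 2 := h7
        _ ≤ 25 * 2 ^ k := h8
    have h10 : (s + 1) * (s + 1) < 2 ^ k := Nat.lt_of_mul_lt_mul_left h9
    omega
  have h11 : 3 * ((k + 1) * (s + 3)) ≤ s * s := by nlinarith
  have hexp : (k + 1) + ((k + 1) * 2 + ((k + 1) * s + 2 * (N / 3))) ≤ 2 * n := by
    have h12 : 3 * (N / 3) ≤ N := Nat.mul_div_le N 3
    have h13 : 3 * ((k + 1) * (s + 3)) ≤ N := h11.trans hs1
    nlinarith
  have hn2 : n ≤ 2 ^ (k + 1) := by omega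
  have hN2 : N ≤ 2 ^ (k + 1) := hk2.le
  calc n * (N ^ 2 * (N ^ s * 4 ^ (N / 3)))
      ≤ 2 ^ (k + 1) * ((2 ^ (k + 1)) ^ 2 * ((2 ^ (k + 1)) ^ s * 4 ^ (N / 3))) := by
        gcongr
    _ = 2 ^ ((k + 1) + ((k + 1) * 2 + ((k + 1) * s + 2 * (N / 3)))) := by
        rw [show (4 : ℕ) = 2 ^ 2 by norm_num]
        rw [← pow_mul, ← pow_mul, ← pow_mul, ← pow_add, ← pow_add, ← pow_add]
    _ ≤ 2 ^ (2 * n) := Nat.pow_le_pow_right (by norm_num) hexp
    _ = 4 ^ n := by rw [pow_mul]; norm_num

/-- **At least three primes in `(n, 2n]`.** -/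
theorem three_le_card {n : ℕ} (hn : 1024 ≤ n) : 3 ≤ (T n).card := by
  by_contra hcon
  have h1 : 4 ^ n < n * n.centralBinom := Nat.four_pow_lt_mul_centralBinom n (by omega)
  have h2 := centralBinom_le n (by omega)
  have h3 : (2 * n) ^ (T n).card ≤ (2 * n) ^ 2 := Nat.pow_le_pow_right (by omega) (by omega)
  have h4 : n * n.centralBinom ≤ 4 ^ n := by
    calc n * n.centralBinom ≤ n * ((2 * n) ^ (T n).card * ((2 * n) ^ sqrt (2 * n) * 4 ^ (2 * n / 3))) :=
          Nat.mul_le_mul_left _ h2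
      _ ≤ n * ((2 * n) ^ 2 * ((2 * n) ^ sqrt (2 * n) * 4 ^ (2 * n / 3))) :=
          Nat.mul_le_mul_left _ (Nat.mul_le_mul_right _ h3)
      _ ≤ 4 ^ n := main_inequality hn
  omega

/-- for `m ≥ 17` there are primes `p`, `q` with `m < 2 p`, `p + 3 ≤ q ≤ m` -/
theorem exists_two_primes {m : ℕ} (hm : 17 ≤ m) :
    ∃ p q : ℕ, p.Prime ∧ q.Prime ∧ m < 2 * p ∧ p + 3 ≤ q ∧ q ≤ m := by
  rcases lt_or_ge m 2048 with h | h
  · rcases lt_or_ge m 22 with h1 | h1
    · exact ⟨11, 17, by norm_num, by norm_num, by omega, by omega, by omega⟩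
    rcases lt_or_ge m 26 with h2 | h2
    · exact ⟨13, 19, by norm_num, by norm_num, by omega, by omega, by omega⟩
    rcases lt_or_ge m 38 with h3 | h3
    · exact ⟨19, 23, by norm_num, by norm_num, by omega, by omega, by omega⟩
    rcases lt_or_ge m 62 with h4 | h4
    · exact ⟨31, 37, by norm_num, by norm_num, by omega, by omega, by omega⟩
    rcases lt_or_ge m 106 with h5 | h5
    · exact ⟨53, 59, by norm_num, by norm_num, by omega, by omega, by omega⟩
    rcases lt_or_ge m 194 with h6 | h6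
    · exact ⟨97, 101, by norm_num, by norm_num, by omega, by omega, by omega⟩
    rcases lt_or_ge m 362 with h7 | h7
    · exact ⟨181, 191, by norm_num, by norm_num, by omega, by omega, by omega⟩
    rcases lt_or_ge m 706 with h8 | h8
    · exact ⟨353, 359, by norm_num, by norm_num, by omega, by omega, by omega⟩
    rcases lt_or_ge m 1382 with h9 | h9
    · exact ⟨691, 701, by norm_num, by norm_num, by omega, by omega, by omega⟩
    · exact ⟨1373, 1381, by norm_num, by norm_num, by omega, by omega, by omega⟩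
  · have h1 := three_le_card (n := m / 2) (by omega)
    have h2 : 2 < (T (m / 2)).card := h1
    rw [Finset.two_lt_card] at h2
    obtain ⟨a, ha, b, hb, c, hc, hab, hac, hbc⟩ := h2
    rw [mem_T] at ha hb hc
    have hoa : a % 2 = 1 := Nat.odd_iff.1 (ha.2.odd_of_ne_two (by omega))
    have hob : b % 2 = 1 := Nat.odd_iff.1 (hb.2.odd_of_ne_two (by omega))
    have hoc : c % 2 = 1 := Nat.odd_iff.1 (hc.2.odd_of_ne_two (by omega))
    rcases lt_or_gt_of_ne hab with h3 | h3 <;> rcases lt_or_gt_of_ne hac with h4 | h4 <;>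
      rcases lt_or_gt_of_ne hbc with h5 | h5
    · exact ⟨a, c, ha.2, hc.2, by omega, by omega, by omega⟩
    · exact ⟨a, b, ha.2, hb.2, by omega, by omega, by omega⟩
    · omega
    · exact ⟨c, b, hc.2, hb.2, by omega, by omega, by omega⟩
    · exact ⟨b, c, hb.2, hc.2, by omega, by omega, by omega⟩
    · omega
    · exact ⟨b, a, hb.2, ha.2, by omega, by omega, by omega⟩
    · exact ⟨c, a, hc.2, ha.2, by omega, by omega, by omega⟩

end Cfsg.Agent.H529.ManyPrimes
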