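import Cfsg.Agent.H529.FRow
import Cfsg.Agent.H531.RMTw

/-!
# `FRow` for the exceptional groups `G₂`, `F₄`, `E₆`, `E₇`, `E₈`, `³D₄`, `²E₆`
-/

set_option autoImplicit false

namespace Cfsg.Agent.H529.FRoExc

open Cfsg.Agent.H531 Cfsg.Agent.H529.FRo

universe v

section Chev

open Cfsg.Lie Cfsg.Agent.H967.CopMat Cfsg.Agent.H967.CopRow Cfsg.Agent.H967.CopChev
  Cfsg.Agent.ChevStructure.FieldMap Cfsg.Agent.ChevalleyStructure Cfsg.Agent.ChevalleyStructure.Elts
  Cfsg.Agent.H531.RMChev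

theorem fRow_chev {D : ChevalleyDatum} (hD : InList D) {F : Type v} [Field F] [Finite F]
    (R : Row (D.group F)) (h2 : 2 ∣ Nat.card ↥(D.group F)) : ∃ f, FRow f ↥(D.group F) := by
  have hr := nroots_pos hD
  obtain ⟨f, hf⟩ := CharP.exists F
  refine ⟨f, FRow.of_sl h2 (fieldAut R.stab) (FieldConj.of_row R) (psi hD hr F) ?_ ?_⟩
  · intro τ t
    apply Subtype.ext
    rw [coe_fieldAut, psi_up, psi_up, map_xG]
  · intro t ht
    have h1 := congrArg Subtype.val ht
    rw [psi_up] at h1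
    exact (xG_eq_one_iff hD hr t).1 h1

end Chev

section Sub

open Cfsg.Agent.H967.CopMat Cfsg.Agent.H967.CopRow Cfsg.Agent.ChevalleyStructure.SL2Hom

/-- **Criterion** for twisted groups. -/
theorem FRow.of_row_fixed {ι : Type} [Fintype ι] [DecidableEq ι] {K : Type v} [Field K] [Fintype K] {f : ℕ}
    [CharP K f]
    {G : Subgroup (Matrix.GeneralLinearGroup ι K)} (R : Row G) (h2 : 2 ∣ Nat.card ↥G)
    (s : Matrix.SpecialLinearGroup (Fin 2) K →* Matrix.GeneralLinearGroup ι K) {q d : ℕ} (hq : 2 ≤ q)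
    (hK : Fintype.card K = q ^ d) (hd0 : d ≠ 0) (φ : K →+* K) (hφ : ∀ x, φ x = x ^ q)
    (hup : ∀ t : K, φ t = t → s (up t) ∈ G) (hlo : ∀ t : K, φ t = t → s (lo t) ∈ G)
    (eup : ∀ (τ : K ≃+* K) (t : K), Matrix.GeneralLinearGroup.map (τ : K →+* K) (s (up t)) = s (up (τ t)))
    (hinj : ∀ t : K, s (up t) = 1 → t = 0) (hfac : ∀ p : ℕ, p.Prime → p ∣ d.factorial → p ∣ Nat.card ↥G) :
    FRow f ↥G := by
  have hw : s (weylSL K) ∈ G := by
    rw [weylSL_eq, map_mul, map_mul]
    have h1 : φ (-1) = -1 := by rw [map_neg, map_one]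
    exact mul_mem (mul_mem (hup 1 (map_one φ)) (hlo (-1) h1)) (hup 1 (map_one φ))
  have hmem : ∀ u ∈ fixUnits K q, s (diagSL K u) ∈ G := by
    intro u hu
    have hu1 : φ (u : K) = u := by
      rw [hφ, ← Units.val_pow_eq_pow_val]
      exact congrArg Units.val hu
    have hu2 : φ (-(u : K)⁻¹) = -(u : K)⁻¹ := by rw [map_neg, map_inv₀, hu1]
    rw [diagSL_eq, map_mul, map_mul, map_mul, map_inv]
    exact mul_mem (mul_mem (mul_mem (hup _ hu1) (hlo _ hu2)) (hup _ hu1)) (inv_mem hw)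
  let h : fixUnits K q →* ↥G :=
    { toFun := fun u => ⟨s (diagSL K u), hmem u u.2⟩
      map_one' := Subtype.ext (by
        show s (diagSL K ((1 : fixUnits K q) : Kˣ)) = 1
        rw [OneMemClass.coe_one, map_one, map_one])
      map_mul' := fun u v => Subtype.ext (by
        show s (diagSL K ((u * v : fixUnits K q) : Kˣ)) = s (diagSL K u) * s (diagSL K v)
        rw [Subgroup.coe_mul, map_mul, map_mul]) }
  -- the root group
  let V : AddSubgroup K :=
    { carrier := {x | φ x = x}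
      add_mem' := fun {x y} (hx : φ x = x) (hy : φ y = y) => by
        show φ (x + y) = x + y
        rw [map_add, hx, hy]
      zero_mem' := map_zero φ
      neg_mem' := fun {x} (hx : φ x = x) => by
        show φ (-x) = -x
        rw [map_neg, hx] }
  let x : Multiplicative V →* ↥G :=
    { toFun := fun t => ⟨s (up ((Multiplicative.toAdd t : V) : K)), hup _ (Multiplicative.toAdd t : V).2⟩
      map_one' := Subtype.ext (by
        show s (upHom K 1) = 1
        rw [map_one, map_one])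
      map_mul' := fun a b => Subtype.ext (by
        show s (upHom K (Multiplicative.ofAdd ((Multiplicative.toAdd a : V) : K) *
          Multiplicative.ofAdd ((Multiplicative.toAdd b : V) : K))) = _
        rw [map_mul, map_mul]
        rfl) }
  have hcom : ∀ (τ : K ≃+* K) (t : K), t ∈ V → τ t ∈ V := by
    intro τ t (ht : φ t = t)
    show φ (τ t) = τ t
    rw [hφ, ← map_pow, ← hφ, ht]
  refine FRow.of_fieldConj (prime_of_char (F := K)) (fieldAut R.stab) (FieldConj.of_row R) ?_ ?_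
  · intro r hr hrf
    refine dvd_of_hom h2 h (fun u hu => ?_) hr ?_
    · have h1 : s (diagSL K u) = 1 := congrArg Subtype.val hu
      exact Subtype.ext (sq_of_ker s hinj u h1)
    · rw [card_fixUnits hq hK]
      -- `q` is a power of `f`
      have hfp := prime_of_char (F := K) (f := f)
      obtain ⟨e, he0, he⟩ := FiniteField.card K f
      obtain ⟨a, -, ha⟩ := (Nat.dvd_prime_pow hfp).1
        (show q ∣ f ^ (e : ℕ) by rw [← he, hK]; exact dvd_pow_self q hd0)
      refine hrf.trans ?_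
      rw [ha]
      simpa using Nat.sub_dvd_pow_sub_pow f 1 a
  · intro p τ hp hpK hpow hne
    refine mv_root (F := K) (τ := τ) V x ?_ (hcom τ) ?_ ?_
    · intro t ht
      exact Subtype.ext (hinj t (congrArg Subtype.val ht))
    · intro t t' htt
      apply Subtype.ext
      rw [coe_fieldAut]
      show Matrix.GeneralLinearGroup.map (τ : K →+* K) (s (up (t : K))) = s (up (t' : K))
      rw [eup, htt]
    · intro hτ
      apply hne
      have hτ' : ∀ u ∈ fixUnits K q, τ ((u : Kˣ) : K) = u := by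
        intro u hu
        apply hτ
        show φ (u : K) = u
        rw [hφ, ← Units.val_pow_eq_pow_val]
        exact congrArg Units.val hu
      have h1 := orderOf_le hq hK τ hτ'
      have hfin : Finite (K ≃+* K) := Finite.of_injective (fun f : K ≃+* K => (f : K → K)) DFunLike.coe_injective
      have h3 : 0 < orderOf τ := orderOf_pos τ
      have h4 : orderOf τ ∣ d.factorial := Nat.dvd_factorial h3 h1
      have h5 : orderOf (fieldAut R.stab τ) ∣ d.factorial := (orderOf_map_dvd _ _).trans h4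
      have h6 := orderOf_dvd_of_pow_eq_one hpow
      rcases (Nat.dvd_prime hp).1 h6 with h7 | h7
      · exact orderOf_eq_one_iff.1 h7
      · rw [h7] at h5
        exact absurd (hfac p hp h5) hpK

end Sub

section Tw

open Cfsg.Lie Cfsg.Agent.H967.CopMat Cfsg.Agent.H967.CopRow Cfsg.Agent.H967.CopTw
  Cfsg.Agent.ChevalleyStructure Cfsg.Agent.ChevalleyStructure.Elts Cfsg.Agent.H531.RMChev

variable {K : Type v} [Field K] [Fintype K] {q : ℕ}

theorem fRow_of_root {D : ChevalleyDatum} (hD : InList D) {r : ℕ} (hr : r < D.nroots)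
    {G : Subgroup (GL D.Idx K)} (R : Row G) (h2 : 2 ∣ Nat.card ↥G) {d : ℕ} (hq : 2 ≤ q)
    (hK : Fintype.card K = q ^ d) (hd0 : d ≠ 0) (φ : K →+* K) (hφ : ∀ x, φ x = x ^ q)
    (hup : ∀ t : K, φ t = t → xG hD r t ∈ G) (hlo : ∀ t : K, φ t = t → xG hD (D.neg r) t ∈ G)
    (hfac : ∀ p : ℕ, p.Prime → p ∣ d.factorial → p ∣ Nat.card ↥G) : ∃ f, FRow f ↥G := by
  have e1 : ∀ t : K, SL2Hom.phi (SL2All.good_of_mem D hD r hr) K (SL2Hom.up t) = xG hD r t := fun t =>
    Units.ext (SL2Hom.phi_upper _ _ t rfl)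
  have e2 : ∀ t : K, SL2Hom.phi (SL2All.good_of_mem D hD r hr) K (SL2Hom.lo t) = xG hD (D.neg r) t := fun t =>
    Units.ext (SL2Hom.phi_lower _ _ t rfl)
  obtain ⟨f, hf⟩ := CharP.exists K
  refine ⟨f, FRow.of_row_fixed R h2 (SL2Hom.phi (SL2All.good_of_mem D hD r hr) K) hq hK hd0 φ hφ ?_ ?_ ?_ ?_ hfac⟩
  · intro t ht
    rw [e1]
    exact hup t ht
  · intro t ht
    rw [e2]
    exact hlo t ht
  · intro τ t
    rw [e1, e1, map_xG]
  · intro t ht
    rw [e1] at ht
    exact (xG_eq_one_iff hD hr t).1 ht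

theorem fRow_d4 (hq : IsPrimePow q) (hK : Fintype.card K = q ^ 3) : ∃ f, FRow f ↥(twistedD4 K q) := by
  obtain ⟨φ, hφ⟩ := D4Fixed.exists_frob hq hK
  have hc := S1067.result hq hK
  have hq2 : 2 ≤ q := hq.two_le
  have h2 : 2 ∣ Nat.card ↥(twistedD4 K q) := by
    rw [hc, mul_assoc]
    exact H967.CopChev.two_dvd_of (by norm_num)
  have h3 : 3 ∣ Nat.card ↥(twistedD4 K q) := by
    rw [hc]
    rcases Nat.lt_or_ge (q % 3) 1 with h | h
    · have h3q : 3 ∣ q := Nat.dvd_of_mod_eq_zero (by omega)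
      exact ((((h3q.trans (dvd_pow_self q (by norm_num))).mul_right _).mul_right _).mul_right _)
    · have h5 : (q ^ 2) % 3 = 1 := by
        have : q % 3 = 1 ∨ q % 3 = 2 := by omega
        rcases this with h4 | h4 <;> simp [Nat.pow_mod, h4]
      have h6 : 3 ∣ q ^ 2 - 1 := by omega
      exact (((h6.mul_left _).mul_right _).mul_right _)
  refine fRow_of_root (r := 14) (D := chevD4) (by simp) (by decide) (row_d4 hq hK) h2 hq2 hK (by norm_num) φ hφ
    ?_ ?_ ?_
  · intro t ht
    exact D4U.xG14_mem hφ ht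
  · intro t ht
    have h1 := D4Fixed.x9_mem (K := K) ((hφ t).symm.trans ht)
    rw [D4U.xU_eq] at h1
    exact h1
  · intro p hp hd
    have h6 : p ∣ 2 * 3 := hd
    rcases hp.dvd_mul.1 h6 with h | h
    · rw [(Nat.prime_dvd_prime_iff_eq hp Nat.prime_two).1 h]; exact h2
    · rw [(Nat.prime_dvd_prime_iff_eq hp Nat.prime_three).1 h]; exact h3

theorem fRow_2e6 (hq : IsPrimePow q) (hK : Fintype.card K = q ^ 2)
    (hs : Schreier.Basic.Sch ↥(twistedE6 K q)) (h2 : 2 ∣ Nat.card ↥(twistedE6 K q)) :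
    ∃ f, FRow f ↥(twistedE6 K q) := by
  obtain ⟨φ, hφ, hqq⟩ := TwE6Basic.exists_frob hq hK
  refine fRow_of_root (r := 46) (D := chevE6) (by simp) (by decide) (row_2e6 hq hK hs) h2 hq.two_le hK
    (by norm_num) φ hφ ?_ ?_ ?_
  · intro t ht
    exact E6Fixed.x_mem (by simp) ((hφ t).symm.trans ht)
  · intro t ht
    have hn : chevE6.neg 46 = 25 := by decide +kernel
    rw [hn]
    exact E6Fixed.x_mem (by simp) ((hφ t).symm.trans ht)
  · intro p hp hd
    have h6 : p ∣ 2 := hd
    rw [(Nat.prime_dvd_prime_iff_eq hp Nat.prime_two).1 h6]; exact h2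

end Tw

end Cfsg.Agent.H529.FRoExc
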