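import Cfsg.Agent.H529.FRow
import Cfsg.Agent.H71.RealMoveTw

/-!
# `FRow` for `Sz(q)`, `²G₂(q)`, `²F₄(q)`
-/

set_option autoImplicit false

namespace Cfsg.Agent.H529.FRoTw

open Cfsg.Lie Cfsg.Agent.H531 Cfsg.Agent.H529.FRo Cfsg.Agent.H967.CopSz Cfsg.Agent.H71.RealMoveTw

universe u v

/-- **Criterion** -/
theorem FRow.of_fun {K : Type u} [Group K] {F : Type v} [Field F] [Finite F] {f : ℕ} [CharP F f]
    (φ : (F ≃+* F) →* MulAut K) (hco : FieldConj φ) (x : F → K) (hadd : ∀ s t, x (s + t) = x s * x t)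
    (hφ : ∀ (τ : F ≃+* F) (t : F), φ τ (x t) = x (τ t)) (hinj : ∀ s t : F, x s = x t → s = t)
    (hd : ∀ q : ℕ, q.Prime → q ∣ f - 1 → q ∣ Nat.card K) : FRow f K := by
  let X : Multiplicative F →* K := MonoidHom.mk' (fun t => x (Multiplicative.toAdd t)) (fun s t => hadd _ _)
  refine FRow.of_add φ hco X hφ (fun t ht => ?_) hd
  apply hinj
  show X (Multiplicative.ofAdd t) = X 1
  rw [ht, map_one]

section Sz

open Cfsg.Agent.LieRecognition.SzMatrix Cfsg.Agent.H70.SzOut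

variable {K : Type*} [Field K] [Fintype K] {m : ℕ}

theorem charP_of_card {f n : ℕ} (hf : f.Prime) (hF : Fintype.card K = f ^ n) : CharP K f := by
  obtain ⟨p, hp⟩ := CharP.exists K
  obtain ⟨a, hp1, ha⟩ := FiniteField.card K p
  have h1 : p ∣ f ^ n := by
    rw [← hF, ha]
    exact dvd_pow_self p a.ne_zero
  have h2 := (Nat.prime_dvd_prime_iff_eq hp1 hf).1 (hp1.dvd_of_dvd_pow h1)
  rwa [h2] at hp

theorem fRow_sz (hm : 1 ≤ m) (hF : Fintype.card K = 2 ^ (2 * m + 1)) :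
    FRow 2 ↥(Cfsg.Lie.Sz K (2 ^ (m + 1))) := by
  have hch : CharP K 2 := charP_of_card Nat.prime_two hF
  let H := good hF
  refine FRow.of_fun _ (FieldConj.of_row (row_sz hm hF)) (fun b => H.u 0 b) ?_ ?_ ?_ ?_
  · intro s t
    show H.u 0 (s + t) = H.u 0 s * H.u 0 t
    rw [H.u_mul, zero_mul, add_zero, add_zero]
  · intro τ t
    have h1 := Cfsg.Agent.H70.SzOut.fieldAut_u H τ 0 t
    rw [map_zero] at h1
    exact h1
  · intro s t h
    exact (H.u_inj h).2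
  · intro q hq hd
    exact absurd (Nat.dvd_one.1 hd) hq.one_lt.ne'

end Sz

/-! ### Ree groups -/

section Ree

open Cfsg.Agent.ChevalleyStructure.Ree.Gens Cfsg.Agent.ChevalleyStructure.Ree Cfsg.Agent.LieRecognition
  Cfsg.Agent.LieRecognition.ReeAbs Cfsg.Agent.ChevalleyStructure.Ree.Normal

variable {K : Type*} [Field K] [Fintype K] {m : ℕ}

theorem fRow_ree (hm : 1 ≤ m) (hK : Fintype.card K = 3 ^ (2 * m + 1)) :
    FRow 3 ↥(Cfsg.Lie.twistedG2 K (3 ^ m)) := by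
  have hch : CharP K 3 := charP_of_card Nat.prime_three hK
  obtain ⟨θ, c⟩ := exists_ctx hK
  have D := Data.data c
  refine FRow.of_fun _ (FieldConj.of_row (row_ree hm hK)) (fun v => Data.U K (3 ^ m) 0 0 v) ?_ ?_ ?_ ?_
  · intro s t
    have h1 := D.U_mul 0 0 s 0 0 t
    simp only [zero_mul, add_zero, sub_zero, ne_eq, OfNat.ofNat_ne_zero, not_false_eq_true, zero_pow] at h1
    exact h1.symm
  · intro τ v
    have h1 := (Cfsg.Agent.H71.FldAut.reeFld c).onU τ 0 0 v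
    rw [map_zero] at h1
    exact h1
  · intro s t h
    have h1 := D.inj₁ 0 0 s 1 0 0 t 1 (by
      have h2 : Data.U K (3 ^ m) 0 0 s = Data.U K (3 ^ m) 0 0 t := h
      rw [h2])
    exact h1.2.2.1
  · intro q hq hd
    have h1 : q ∣ 2 := hd
    rw [(Nat.prime_dvd_prime_iff_eq hq Nat.prime_two).1 h1]
    exact two_dvd D.n_n D.n_ne_one

end Ree

section TwF4Inst

open Cfsg.Agent.SplitTwo Cfsg.Agent.SplitTwo.RootSysZ Cfsg.Agent.KFacts.TwF4 Cfsg.Agent.KFacts.TwF4.Arc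
  Cfsg.Agent.KFacts.TwF4.Inv Cfsg.Agent.TitsThree.RankTwoZ Cfsg.Agent.SplitTwo.ZS
open Cfsg.Agent.ChevalleyStructure.TwF4.TwistedFix Cfsg.Agent.KFacts.TwF4.Inst Cfsg.Agent.KFacts.TwF4

variable {K : Type*} [Field K] [Fintype K] {m : ℕ}

theorem fRow_tf4 (hm : 1 ≤ m) (hK : Fintype.card K = 2 ^ (2 * m + 1)) :
    FRow 2 ↥(Cfsg.Lie.twistedF4 K (2 ^ m)) := by
  have hch : CharP K 2 := Cfsg.Agent.ChevalleyStructure.TwF4.Twisted.charP_two hK
  obtain ⟨φ, hφ⟩ := exists_rln hK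
  set S := full hK hφ with hS
  refine FRow.of_fun _ (FieldConj.of_row (row_tf4 hm hK)) (fun t => S.o 0 t) ?_ ?_ ?_ ?_
  · intro s t
    exact (S.o_add 0 s t).symm
  · intro τ t
    exact S2128.fld_ro τ hφ 0 t
  · intro s t h
    exact S.injO 0 h
  · intro q hq hd
    exact absurd (Nat.dvd_one.1 hd) hq.one_lt.ne'

end TwF4Inst

end Cfsg.Agent.H529.FRoTw
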