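import Cfsg.Agent.H529.FRow
import Cfsg.Agent.H459.Reduce
import Cfsg.Agent.S0205

/-!
# Coprime automorphisms with a small set of primes dividing the index of the fixed points

* `eq_one` : `L` without solvable radical, `b` an automorphism of prime order `q ∤ |L|`, `q ∣ f - 1` for all primes `f`
  dividing the index of the fixed points of `b`. Then `b = 1`.
* `solv_com` : `L` arbitrary; then `[L, b]` is solvable.

Both under the hypothesis that the finite non-abelian simple groups of the universe satisfy `∃ f, FRow f K`.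
-/

set_option autoImplicit false

namespace Cfsg.Agent.H529.FSolv

open Cfsg Cfsg.Agent.H529.FRo Cfsg.Agent.H532.Thr Cfsg.Agent.H459.Rad Cfsg.Agent.H459.Reduce
open Cfsg.Agent.SignalizersComponents.Components
open Subgroup

universe u

theorem relIndex_dvd_index {G : Type*} [Group G] [Finite G] (C H : Subgroup G) [H.Normal] : C.relIndex H ∣ C.index := by
  have h1 : (C ⊓ H).relIndex H * H.relIndex (C ⊔ H) = (C ⊓ H).relIndex (C ⊔ H) :=
    relIndex_mul_relIndex _ _ _ inf_le_right le_sup_right
  have h2 : (C ⊓ H).relIndex C * C.relIndex (C ⊔ H) = (C ⊓ H).relIndex (C ⊔ H) :=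
    relIndex_mul_relIndex _ _ _ inf_le_left le_sup_left
  have h3 : H.relIndex (C ⊔ H) = H.relIndex C := relIndex_sup_right C H
  have h4 : (C ⊓ H).relIndex C = H.relIndex C := by rw [inf_comm, inf_relIndex_right]
  have h5 : (C ⊓ H).relIndex H = C.relIndex H := inf_relIndex_right C H
  rw [h5, h3] at h1
  rw [h4, mul_comm] at h2
  have h6 : 0 < H.relIndex C := Nat.pos_of_ne_zero (H.subgroupOf C).index_ne_zero_of_finite
  have h7 : C.relIndex H = C.relIndex (C ⊔ H) := Nat.eq_of_mul_eq_mul_right h6 (h1.trans h2.symm)
  rw [h7]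
  exact relIndex_dvd_index_of_le le_sup_left

theorem relIndex_dvd_of_subnormal {G : Type*} [Group G] [Finite G] (C : Subgroup G) {H : Subgroup G}
    (h : H.IsSubnormal) : C.relIndex H ∣ C.index := by
  induction h with
  | top => rw [relIndex_top_right]
  | step H K h_le hSubn hN ih =>
    refine dvd_trans ?_ ih
    rw [← relIndex_subgroupOf h_le]
    exact relIndex_dvd_index _ _

/-- restriction: index of the fixed points -/
theorem index_fix_res {L : Type u} [Group L] (b : MulAut L) (T : Subgroup L) (hT : Inv b T) :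
    (fix (res b T hT)).index = (fix b).relIndex T := by
  have h1 : fix (res b T hT) = (fix b).subgroupOf T := by
    ext x
    rw [mem_fix, mem_subgroupOf, mem_fix]
    constructor
    · intro h
      exact congrArg Subtype.val h
    · intro h
      exact Subtype.ext h
  rw [h1]
  rfl

/-- the property of the simple groups used -/
def AllF : Prop := ∀ (K : Type u) [Group K] [Finite K] [IsSimpleGroup K], ¬ IsMulCommutative K → ∃ f, FRow f K

theorem two_dvd {K : Type*} [Group K] [Finite K] [IsSimpleGroup K] (hna : ¬ IsMulCommutative K) : 2 ∣ Nat.card K := by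
  by_contra h
  have hodd : Odd (Nat.card K) := by
    rw [← Nat.not_even_iff_odd, even_iff_two_dvd]
    exact h
  have hs := S0205.result hodd
  apply hna
  refine ⟨⟨fun a b => ?_⟩⟩
  exact (IsSimpleGroup.comm_iff_isSolvable.2 hs) a b

/-- **Groups without solvable radical.** -/
theorem eq_one (hS : AllF.{u}) {L : Type u} [Group L] [Finite L] (hR : solvableRadical L = ⊥) {q : ℕ} (hq : q.Prime)
    {b : MulAut L} (hb : b ^ q = 1) (hcop : ¬ q ∣ Nat.card L)
    (h : ∀ f : ℕ, f.Prime → f ∣ (fix b).index → q ∣ f - 1) : b = 1 := by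
  have hodd : ¬ 2 ∣ (fix b).index := by
    intro h2
    exact hq.one_lt.ne' (Nat.dvd_one.1 (h 2 Nat.prime_two h2))
  -- `b` centralises the components
  have key : ∀ T : Subgroup L, IsComponent T → ∀ t ∈ T, b t = t := by
    intro T hT
    have hTs : IsSimpleGroup T := component_simple hR hT
    have hTna := quasisimple_not_isMulCommutative hT.2
    have h2 : 2 ∣ Nat.card T := two_dvd hTna
    have hdvd : (fix b).relIndex T ∣ (fix b).index := relIndex_dvd_of_subnormal _ hT.1
    -- `b T = T`
    have hinv : Inv b T := by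
      have h3 : (fix b ⊓ T : Subgroup L) ≠ ⊥ := by
        intro h3
        apply hodd
        refine dvd_trans ?_ hdvd
        have h4 : (fix b ⊓ T).relIndex T = (fix b).relIndex T := inf_relIndex_right _ _
        rw [← h4, h3, relIndex_bot_left]
        exact h2
      obtain ⟨x, hx, hx1⟩ : ∃ x ∈ fix b ⊓ T, x ≠ 1 := by
        by_contra hcon
        push Not at hcon
        exact h3 (eq_bot_iff.2 fun x hx => mem_bot.2 (hcon x hx))
      have hx2 : b x = x := (Subgroup.mem_inf.1 hx).1
      have hxT : (x : L) ∈ T := (Subgroup.mem_inf.1 hx).2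
      have hbT : IsComponent (T.map b.toMonoidHom) := isComponent_map_equiv b hT
      have h4 : T.map b.toMonoidHom = T := by
        by_contra hne
        have h5 := component_le_centralizer_of_ne hbT hT hne
        have h6 : (x : L) ∈ centralizer (T : Set L) := h5 ⟨x, hxT, hx2⟩
        have h7 : (⟨x, hxT⟩ : T) ∈ center T := by
          rw [mem_center_iff]
          intro t
          apply Subtype.ext
          exact mem_centralizer_iff.1 h6 t t.2
        rw [component_center hR hT, mem_bot] at h7
        exact hx1 (congrArg Subtype.val h7)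
      refine Inv.of_le fun t ht => ?_
      rw [← h4]
      exact ⟨t, ht, rfl⟩
    -- the simple group
    by_cases hres : res b T hinv = 1
    · intro t ht
      have := congrArg (fun β : MulAut T => ((β ⟨t, ht⟩ : T) : L)) hres
      exact this
    · exfalso
      obtain ⟨f, hf⟩ := hS T hTna
      have hqT : ¬ q ∣ Nat.card T := fun h => hcop (h.trans (card_subgroup_dvd_card T))
      obtain ⟨h3, h4⟩ := hf.five hq hqT (b := res b T hinv) (by
        ext x
        rw [res_pow, hb]; rfl) hres
      rw [index_fix_res] at h3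
      exact h4 (h f hf.prime (h3.trans hdvd))
  -- `n⁻¹ b(n)` centralises the components
  ext n
  by_contra hne
  have hne' : n⁻¹ * b n ≠ 1 := by
    intro h1
    apply hne
    show b n = n
    exact (inv_mul_eq_one.1 h1).symm
  obtain ⟨T, hT, t, ht, hcomm⟩ := exists_component hR hne'
  apply hcomm
  have h1 := key _ (isComponent_conj n hT) (n * t * n⁻¹) ⟨t, ht, rfl⟩
  rw [map_mul, map_mul, map_inv, key T hT t ht] at h1
  have h2 : n⁻¹ * (b n * t * (b n)⁻¹) * b n = n⁻¹ * (n * t * n⁻¹) * b n := by rw [h1]
  have h3 : n⁻¹ * (b n * t * (b n)⁻¹) * b n = n⁻¹ * b n * t := by group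
  have h4 : n⁻¹ * (n * t * n⁻¹) * b n = t * (n⁻¹ * b n) := by group
  rw [h3, h4] at h2
  exact h2

/-- the fixed points of the quotient -/
theorem index_fix_quo {L : Type u} [Group L] [Finite L] {b : MulAut L} {m : ℕ} (hb : Cop b m) {V : Subgroup L} [V.Normal]
    (hV : Inv b V) : (fix (quo b V hV)).index ∣ (fix b).index := by
  have h1 : fix (quo b V hV) = (fix b).map (QuotientGroup.mk' V) := by
    ext x
    constructor
    · intro hx
      obtain ⟨n, rfl⟩ := QuotientGroup.mk_surjective x
      have h2 : n⁻¹ * b n ∈ V := by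
        rw [mem_fix, quo_mk] at hx
        exact QuotientGroup.eq.1 hx.symm
      obtain ⟨v, hv, h3⟩ := hb.fixed_coset hV h2
      refine ⟨n * v, h3, ?_⟩
      rw [QuotientGroup.mk'_apply, eq_comm, QuotientGroup.eq, inv_mul_cancel_left]
      exact hv
    · rintro ⟨n, hn, rfl⟩
      rw [QuotientGroup.mk'_apply, mem_fix, quo_mk, mem_fix.1 hn]
  rw [h1]
  exact index_map_dvd _ (QuotientGroup.mk'_surjective V)

/-- **`[L, b]` is solvable.** -/
theorem solv_com (hS : AllF.{u}) {L : Type u} [Group L] [Finite L] {q : ℕ} (hq : q.Prime)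
    {b : MulAut L} (hb : b ^ q = 1) (hcop : ¬ q ∣ Nat.card L)
    (h : ∀ f : ℕ, f.Prime → f ∣ (fix b).index → q ∣ f - 1) : Group.IsSolvable ↥(com b) := by
  have hc : Cop b q := ⟨hq.pos, hb, (Nat.Prime.coprime_iff_not_dvd hq).2 hcop⟩
  have hinv : Inv b (solvableRadical L) := Inv.of_le fun x hx => by
    have h1 := characteristic_iff_map_le.1 (rad_characteristic L) b
    exact h1 ⟨x, hx, rfl⟩
  have h1 := eq_one hS (L := L ⧸ solvableRadical L) rad_quotient hq (b := quo b _ hinv) (hc.quo hinv).pow
    (fun h => hcop (h.trans (card_quotient_dvd_card _)))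
    (fun f hf hd => h f hf (hd.trans (index_fix_quo hc hinv)))
  have h2 : com b ≤ solvableRadical L := com_le fun n => by
    have h3 := congrArg (fun β : MulAut (L ⧸ solvableRadical L) => β (n : L ⧸ solvableRadical L)) h1
    have h4 : ((b n : L) : L ⧸ solvableRadical L) = (n : L ⧸ solvableRadical L) := h3
    rw [← QuotientGroup.eq_one_iff, QuotientGroup.mk_mul, QuotientGroup.mk_inv, h4, mul_inv_cancel]
  have h3 := rad_solvable L
  exact Group.isSolvable_of_isSolvable_injective (f := inclusion h2) (inclusion_injective h2)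

end Cfsg.Agent.H529.FSolv
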