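import Mathlib
import Cfsg.Prelude.Def_Classification2
import Cfsg.Agent.S0205
import Cfsg.Agent.S0254
import Cfsg.Agent.H254.CopAlt
import Cfsg.Agent.H254.CopSpor
import Cfsg.Agent.H967.CopChev
import Cfsg.Agent.H529.FRowLin
import Cfsg.Agent.H529.FRowExc
import Cfsg.Agent.H529.FRowTw
import Cfsg.Agent.H529.FRowOrth
import Cfsg.Agent.H529.FSolv

/-!
# The index of the fixed points of a coprime automorphism of a known simple group

* `fRow` : a known non-abelian finite simple group satisfies `FRow f K` for some `f`;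
* `five` : `b ≠ 1` of prime order `q ∤ |K|`: some prime `f` divides the index of the fixed points of `b` and
  `q ∤ f - 1`;
* `f5_solv` : `b` an automorphism of prime order `q ∤ |L|` of a finite group `L` such that `q ∣ f - 1` for all primes `f`
  dividing the index of the fixed points of `b`; then `[L, b]` is solvable.
-/

set_option autoImplicit false

namespace Cfsg.Agent.H529.FRoMain

open Cfsg Cfsg.Agent.H529.FRo Cfsg.Agent.H532.Thr

universe u v

/-- Transport from a model. -/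
theorem of_model {M : Type v} [Group M]
    (h : Finite M → IsSimpleGroup M → ¬ IsMulCommutative M → 2 ∣ Nat.card M → ∃ f, FRow f M)
    (K : Type u) [Group K] [Finite K] [IsSimpleGroup K] (hK : ¬ IsMulCommutative K)
    (e : Nonempty (K ≃* M)) : ∃ f, FRow f K := by
  obtain ⟨e⟩ := e
  have h1 : Finite M := Finite.of_equiv K e.toEquiv
  have hsm : IsSimpleGroup M := e.symm.isSimpleGroup
  have hna : ¬ IsMulCommutative M := by
    intro hc
    apply hK
    refine ⟨⟨fun a b => e.injective ?_⟩⟩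
    rw [map_mul, map_mul]
    exact hc.is_comm.comm _ _
  obtain ⟨f, hf⟩ := h h1 hsm hna (by rw [← Nat.card_congr e.toEquiv]; exact FSolv.two_dvd hK)
  exact ⟨f, hf.of_equiv e.symm⟩

theorem alternating (K : Type u) [Group K] [Finite K] [IsSimpleGroup K] (hK : ¬ IsMulCommutative K)
    (h : IsAlternating K) : ∃ f, FRow f K := by
  obtain ⟨n, hn, ⟨e⟩⟩ := h
  by_cases h6 : n = 6
  · subst h6
    haveI : Fact (Nat.Prime 3) := ⟨Nat.prime_three⟩
    letI : Fintype (GaloisField 3 2) := Fintype.ofFinite _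
    have hF : Fintype.card (GaloisField 3 2) = 9 := by
      rw [← Nat.card_eq_fintype_card, GaloisField.card 3 2 (by norm_num)]; norm_num
    obtain ⟨e'⟩ := S0254.result (F := GaloisField 3 2) hF
    exact of_model (M := Matrix.ProjectiveSpecialLinearGroup (Fin 2) (GaloisField 3 2))
      (fun _ _ h3 h4 => FRoLin.fRow_psl le_rfl (fun _ => by omega) h3 h4) K hK ⟨e.trans e'.symm⟩
  · exact ⟨2, FRow.of_copTriv ((H254.Alt.copTriv hn h6).of_equiv e.symm)⟩

/-- **`FRow` for the known non-abelian simple groups.** -/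
theorem fRow (K : Type u) [Group K] [Finite K] [IsSimpleGroup K] (hna : ¬ IsMulCommutative K)
    (hk : IsKnownSimple' K) : ∃ f, FRow f K := by
  rcases hk with hk | hk | hk | hk | hk | hk | hk | hk | hk | hk
  · exfalso
    apply hna
    have h1 : Fact (Nat.card K).Prime := ⟨hk⟩
    have h2 : IsCyclic K := isCyclic_of_prime_card (p := Nat.card K) rfl
    exact IsCyclic.isMulCommutative
  · exact alternating K hna hk
  · obtain ⟨F, _, _, n, hn, h4, e⟩ := hk
    exact of_model (fun _ _ h1 h2 => FRoLin.fRow_psl hn h4 h1 h2) K hna e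
  · obtain ⟨F, _, _, m, hm, h3, e⟩ := hk
    exact of_model (fun _ _ h1 h2 => FRoLin.fRow_psp hm h3 h1 h2) K hna e
  · obtain ⟨F, _, _, n, q, hF, hn, h32, e⟩ := hk
    exact of_model (fun _ _ h1 h2 => FRoLin.fRow_psu hF hn h32 h1 h2) K hna e
  · obtain ⟨F, _, _, m, hm, hodd, e⟩ := hk
    exact of_model (fun _ _ h1 h2 => FRoOrth.fRow_odd hm hodd h1 h2) K hna e
  · obtain ⟨F, _, _, m, hm, e⟩ := hk
    exact of_model (fun _ _ h1 h2 => FRoOrth.fRow_plus hm h1 h2) K hna e
  · obtain ⟨F, _, _, m, a, b, hm, hab, e⟩ := hk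
    exact of_model (fun _ _ h1 h2 => FRoOrth.fRow_minus hm a b hab h1 h2) K hna e
  · rcases hk with hk | hk | hk | hk | hk | hk | hk | hk | hk | hk | hk
    · obtain ⟨F, _, _, h3, e⟩ := hk
      exact of_model (fun _ _ _ h2 => FRoExc.fRow_chev (by simp) (H967.CopChev.row_g2 h3) h2) K hna e
    · obtain ⟨F, _, _, e⟩ := hk
      exact of_model (fun _ _ _ h2 => FRoExc.fRow_chev (by simp) H967.CopChev.row_f4 h2) K hna e
    · obtain ⟨F, _, _, e⟩ := hk
      exact of_model (fun _ _ _ h2 => FRoExc.fRow_chev (by simp) H967.CopChev.row_e6 h2) K hna e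
    · obtain ⟨F, _, _, e⟩ := hk
      exact of_model (fun _ _ _ h2 => FRoExc.fRow_chev (by simp) H967.CopChev.row_e7 h2) K hna e
    · obtain ⟨F, _, _, e⟩ := hk
      exact of_model (fun _ _ _ h2 => FRoExc.fRow_chev (by simp) H967.CopChev.row_e8 h2) K hna e
    · obtain ⟨F, _, _, q, hq, hF, e⟩ := hk
      exact of_model (fun _ _ _ h2 => FRoExc.fRow_2e6 hq hF (Schreier.TwESix.sch hq hF) h2) K hna e
    · obtain ⟨F, _, _, q, hq, hF, e⟩ := hk
      exact of_model (fun _ _ _ _ => FRoExc.fRow_d4 hq hF) K hna e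
    · obtain ⟨F, _, _, m, hm, hF, e⟩ := hk
      exact of_model (fun _ _ _ _ => ⟨2, FRoTw.fRow_sz hm hF⟩) K hna e
    · obtain ⟨F, _, _, m, hm, hF, e⟩ := hk
      exact of_model (fun _ _ _ _ => ⟨3, FRoTw.fRow_ree hm hF⟩) K hna e
    · obtain ⟨F, _, _, m, hm, hF, e⟩ := hk
      exact of_model (fun _ _ _ _ => ⟨2, FRoTw.fRow_tf4 hm hF⟩) K hna e
    · exact ⟨2, FRow.of_copTriv (H254.CopSpor.tits_triv hk)⟩
  · exact ⟨2, FRow.of_copTriv (H254.CopSpor.sporadic_triv hk)⟩

/-- **(F5)** -/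
theorem five {K : Type u} [Group K] [Finite K] [IsSimpleGroup K] (hna : ¬ IsMulCommutative K)
    (hk : IsKnownSimple' K) {q : ℕ} (hq : q.Prime) (hqK : ¬ q ∣ Nat.card K) {b : MulAut K} (hb : b ^ q = 1)
    (hb1 : b ≠ 1) : ∃ f : ℕ, f.Prime ∧ f ∣ (fix b).index ∧ ¬ q ∣ f - 1 := by
  obtain ⟨f, hf⟩ := fRow K hna hk
  obtain ⟨h1, h2⟩ := hf.five hq hqK hb hb1
  exact ⟨f, hf.prime, h1, h2⟩

/-- the simple groups, if all of them are known -/
theorem allF (hK : ∀ (X : Type u) [Group X] [Finite X] [IsSimpleGroup X], IsKnownSimple' X) : FSolv.AllF.{u} :=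
  fun K _ _ _ hna => fRow K hna (hK K)

/-- **`[L, b]` is solvable** -/
theorem f5_solv {L : Type u} [Group L] [Finite L]
    (hK : ∀ (X : Type u) [Group X] [Finite X] [IsSimpleGroup X], IsKnownSimple' X) (q : ℕ) (hq : q.Prime)
    (b : MulAut L) (hb : b ^ q = 1) (hcop : ¬ q ∣ Nat.card L)
    (h : ∀ f : ℕ, f.Prime → f ∣ (fix b).index → q ∣ f - 1) : Group.IsSolvable ↥(com b) :=
  FSolv.solv_com (allF hK) hq hb hcop h

end Cfsg.Agent.H529.FRoMain
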