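import Mathlib
import Cfsg.Agent.H529.TwinCycle

/-!
# Primitive groups of degree 13 in the alternating group containing an 11-cycle
-/

set_option autoImplicit false

namespace Cfsg.Agent.H529.TwinCycle

open Equiv MulAction SubMulAction

variable {α : Type*} [Fintype α] [DecidableEq α]

theorem false_of_five_dvd {H : Subgroup (Perm α)} (hα : Fintype.card α = 13) (hH : IsPreprimitive H α)
    (h3 : IsMultiplyPretransitive H α 3) (hne : ¬ alternatingGroup α ≤ H) (h5 : 5 ∣ Nat.card H) : False := by
  classical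
  have hf5 : Fact (Nat.Prime 5) := ⟨by norm_num⟩
  obtain ⟨S⟩ : Nonempty (Sylow 5 H) := inferInstance
  have hSp : IsPGroup 5 (S : Subgroup H) := S.isPGroup'
  have hSd : 5 ∣ Nat.card (S : Subgroup H) := S.dvd_card_of_dvd_card h5
  -- elements of order 5 have exactly 3 fixed points
  have hfix3 : ∀ t : H, orderOf t = 5 → ({v : α | (t : Perm α) v = v}).ncard = 3 := by
    intro t ht
    have h1 := support_card_ten hα hH hne t.2 (by rw [Subgroup.orderOf_coe]; exact ht)
    have h2 : {v : α | (t : Perm α) v = v} = (((t : Perm α).supportᶜ : Finset α) : Set α) := by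
      ext v; simp
    rw [h2, Set.ncard_coe_finset, Finset.card_compl, hα, h1]
  set F : Set α := fixedPoints (S : Subgroup H) α with hF
  have hF3 : 3 ≤ F.ncard := by
    have h1 := hSp.card_modEq_card_fixedPoints α
    rw [Nat.card_eq_fintype_card, hα, Nat.card_coe_set_eq, ← hF] at h1
    have h2 : 13 % 5 = F.ncard % 5 := h1
    omega
  -- a point outside F
  obtain ⟨s0, hs0⟩ := exists_prime_orderOf_dvd_card' (G := (S : Subgroup H)) 5 hSd
  have hs0' : orderOf (s0 : H) = 5 := by rw [Subgroup.orderOf_coe]; exact hs0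
  obtain ⟨v, hv⟩ : ∃ v, v ∉ F := by
    by_contra hcon
    push Not at hcon
    have h1 := hfix3 _ hs0'
    have h2 : {v : α | ((s0 : H) : Perm α) v = v} = Set.univ := by
      rw [Set.eq_univ_iff_forall]
      intro v
      exact hcon v s0
    rw [h2, Set.ncard_univ, Nat.card_eq_fintype_card, hα] at h1
    omega
  have hstab : stabilizer (S : Subgroup H) v = ⊥ := by
    by_contra hne'
    have h1 : IsPGroup 5 (stabilizer (S : Subgroup H) v) := hSp.to_subgroup _
    obtain ⟨n, hn⟩ := IsPGroup.iff_card.1 h1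
    have hn0 : n ≠ 0 := by
      rintro rfl
      apply hne'
      exact Subgroup.card_eq_one.1 (by rw [hn, pow_zero])
    obtain ⟨t, ht⟩ := exists_prime_orderOf_dvd_card' (G := stabilizer (S : Subgroup H) v) 5
      (by rw [hn]; exact dvd_pow_self 5 hn0)
    have ht' : orderOf (((t : (S : Subgroup H)) : H)) = 5 := by
      rw [Subgroup.orderOf_coe, Subgroup.orderOf_coe]; exact ht
    have h2 := hfix3 _ ht'
    have h3 : insert v F ⊆ {w : α | (((t : (S : Subgroup H)) : H) : Perm α) w = w} := by
      rintro w (rfl | hw)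
      · exact t.2
      · exact hw (t : (S : Subgroup H))
    have h4 := Set.ncard_le_ncard h3 (Set.toFinite _)
    rw [Set.ncard_insert_of_notMem hv (Set.toFinite _), h2] at h4
    omega
  have hScard : Nat.card (S : Subgroup H) = 5 := by
    have h1 := Nat.card_congr (orbitEquivQuotientStabilizer (S : Subgroup H) v)
    have h2 := Subgroup.card_mul_index (stabilizer (S : Subgroup H) v)
    have h3 : (stabilizer (S : Subgroup H) v).index = Nat.card ((S : Subgroup H) ⧸ stabilizer (S : Subgroup H) v) := rfl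
    rw [h3, ← h1, hstab, Subgroup.card_bot, one_mul] at h2
    have h4 : Nat.card (orbit (S : Subgroup H) v) ≤ 13 := by
      rw [← hα, ← Nat.card_eq_fintype_card]
      exact Nat.card_le_card_of_injective _ Subtype.val_injective
    rw [h2] at h4
    obtain ⟨n, hn⟩ := IsPGroup.iff_card.1 hSp
    rw [hn] at hSd h4 ⊢
    have hn1 : n ≠ 0 := by rintro rfl; norm_num at hSd
    have hn2 : n < 2 := by
      by_contra hcon
      have : 5 ^ 2 ≤ 5 ^ n := Nat.pow_le_pow_right (by norm_num) (by omega)
      omega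
    have : n = 1 := by omega
    rw [this, pow_one]
  have hfacH : (Nat.card H).factorization 5 = 1 := by
    have h1 := S.card_eq_multiplicity
    rw [hScard] at h1
    have h2 : 5 ^ 1 = 5 ^ (Nat.card H).factorization 5 := by rw [← h1]; norm_num
    exact (Nat.pow_right_injective (by norm_num) h2).symm
  -- the element s and its three fixed points
  set s : Perm α := ((s0 : H) : Perm α) with hs
  have hsH : s ∈ H := (s0 : H).2
  have hso : orderOf s = 5 := by rw [hs, Subgroup.orderOf_coe]; exact hs0'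
  have hs10 := support_card_ten hα hH hne hsH hso
  obtain ⟨a, b, c, hab, hac, hbc, hset⟩ : ∃ a b c : α, a ≠ b ∧ a ≠ c ∧ b ≠ c ∧ s.supportᶜ = {a, b, c} := by
    have h1 : (s.supportᶜ).card = 3 := by rw [Finset.card_compl, hα, hs10]
    exact Finset.card_eq_three.1 h1
  have hmem : ∀ w, s w = w ↔ w = a ∨ w = b ∨ w = c := by
    intro w
    have h2 : w ∈ s.supportᶜ ↔ w ∈ ({a, b, c} : Finset α) := by rw [hset]
    rw [Finset.mem_compl, Perm.mem_support, not_not, Finset.mem_insert, Finset.mem_insert,
      Finset.mem_singleton] at h2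
    exact h2
  have hsa : s a = a := (hmem a).2 (Or.inl rfl)
  have hsb : s b = b := (hmem b).2 (Or.inr (Or.inl rfl))
  have hsc : s c = c := (hmem c).2 (Or.inr (Or.inr rfl))
  -- an element of H permuting a, b, c cyclically
  obtain ⟨x, hxH, hxa, hxb, hxc⟩ : ∃ x ∈ H, x a = b ∧ x b = c ∧ x c = a := by
    have e1 : Function.Injective ![a, b, c] := by
      intro i j hij
      fin_cases i <;> fin_cases j <;> simp_all
    have e2 : Function.Injective ![b, c, a] := by
      intro i j hij
      fin_cases i <;> fin_cases j <;> simp_all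
    obtain ⟨x, hx⟩ := h3.exists_smul_eq ⟨![a, b, c], e1⟩ ⟨![b, c, a], e2⟩
    refine ⟨x, x.2, ?_, ?_, ?_⟩
    · exact DFunLike.congr_fun hx 0
    · exact DFunLike.congr_fun hx 1
    · exact DFunLike.congr_fun hx 2
  -- the stabilizer
  set K : Subgroup H := fixingSubgroup H ({a, b, c} : Set α) with hK
  have hKmem : ∀ t : H, t ∈ K ↔ (t : Perm α) a = a ∧ (t : Perm α) b = b ∧ (t : Perm α) c = c := by
    intro t
    rw [hK, mem_fixingSubgroup_iff]
    constructor
    · intro h
      exact ⟨h a (by simp), h b (by simp), h c (by simp)⟩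
    · rintro ⟨h1, h2, h3⟩ w (rfl | rfl | rfl)
      · exact h1
      · exact h2
      · exact h3
  have hsK : (⟨s, hsH⟩ : H) ∈ K := (hKmem _).2 ⟨hsa, hsb, hsc⟩
  have hsxH : x⁻¹ * s * x ∈ H := H.mul_mem (H.mul_mem (H.inv_mem hxH) hsH) hxH
  have hsxK : (⟨x⁻¹ * s * x, hsxH⟩ : H) ∈ K := by
    rw [hKmem]
    refine ⟨?_, ?_, ?_⟩
    · show (x⁻¹ * s * x) a = a
      rw [Perm.mul_apply, Perm.mul_apply, hxa, hsb, Perm.inv_eq_iff_eq, hxa]
    · show (x⁻¹ * s * x) b = b
      rw [Perm.mul_apply, Perm.mul_apply, hxb, hsc, Perm.inv_eq_iff_eq, hxb]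
    · show (x⁻¹ * s * x) c = c
      rw [Perm.mul_apply, Perm.mul_apply, hxc, hsa, Perm.inv_eq_iff_eq, hxc]
  have hsxo : orderOf (x⁻¹ * s * x) = 5 := by
    have : x⁻¹ * s * x = MulAut.conj x⁻¹ s := by simp
    rw [this, ← hso]
    exact orderOf_injective (MulAut.conj x⁻¹).toMonoidHom (MulAut.conj x⁻¹).injective s
  have hfacK : (Nat.card K).factorization 5 = 1 := by
    apply le_antisymm
    · rw [← hfacH]
      exact (Nat.factorization_le_iff_dvd Nat.card_pos.ne' Nat.card_pos.ne').2
        (Subgroup.card_subgroup_dvd_card K) 5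
    · have h1 : 5 ∣ Nat.card K := by
        have h2 := Subgroup.orderOf_dvd_natCard K hsK
        rwa [Subgroup.orderOf_mk, hso] at h2
      exact (Nat.Prime.dvd_iff_one_le_factorization (by norm_num) Nat.card_pos.ne').1 h1
  let g1 : K := ⟨⟨s, hsH⟩, hsK⟩
  let g2 : K := ⟨⟨x⁻¹ * s * x, hsxH⟩, hsxK⟩
  have hc1 : Nat.card (Subgroup.zpowers g1) = 5 ^ (Nat.card K).factorization 5 := by
    rw [Nat.card_zpowers, hfacK, pow_one, Subgroup.orderOf_mk, Subgroup.orderOf_mk, hso]
  have hc2 : Nat.card (Subgroup.zpowers g2) = 5 ^ (Nat.card K).factorization 5 := by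
    rw [Nat.card_zpowers, hfacK, pow_one, Subgroup.orderOf_mk, Subgroup.orderOf_mk, hsxo]
  obtain ⟨h, hh⟩ := MulAction.exists_smul_eq K (Sylow.ofCard _ hc1) (Sylow.ofCard _ hc2)
  have hmem2 : h * g1 * h⁻¹ ∈ Subgroup.zpowers g2 := by
    have h1 : h * g1 * h⁻¹ ∈ ((h • Sylow.ofCard _ hc1 : Sylow 5 K) : Subgroup K) := by
      rw [Sylow.coe_subgroup_smul]
      have h2 : g1 ∈ ((Sylow.ofCard _ hc1 : Sylow 5 K) : Subgroup K) := by
        simp
      have h3 := Subgroup.smul_mem_pointwise_smul g1 (MulAut.conj h) _ h2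
      simpa [MulAut.smul_def, MulAut.conj_apply] using h3
    rw [hh] at h1
    simpa using h1
  obtain ⟨k, hk⟩ := Subgroup.mem_zpowers_iff.1 hmem2
  have hk' : (x⁻¹ * s * x) ^ k = (h.1.1 : Perm α) * s * (h.1.1)⁻¹ := by
    have := congrArg (fun t : K => (t.1.1 : Perm α)) hk
    simpa [g1, g2] using this
  have hh3 := (hKmem h.1).1 h.2
  set y : Perm α := x * h.1.1 with hy
  have hyH : y ∈ H := H.mul_mem hxH h.1.2
  have hya : y a = b := by rw [hy, Perm.mul_apply, hh3.1, hxa]
  have hyb : y b = c := by rw [hy, Perm.mul_apply, hh3.2.1, hxb]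
  have hyc : y c = a := by rw [hy, Perm.mul_apply, hh3.2.2, hxc]
  have hys : y * s * y⁻¹ = s ^ k := by
    have h2 : (x⁻¹ * s * x) ^ k = x⁻¹ * s ^ k * x := by
      have := conj_zpow (a := x⁻¹) (b := s) (i := k)
      simpa using this
    calc y * s * y⁻¹ = x * ((h.1.1 : Perm α) * s * (h.1.1)⁻¹) * x⁻¹ := by rw [hy]; group
      _ = x * (x⁻¹ * s ^ k * x) * x⁻¹ := by rw [← hk', h2]
      _ = s ^ k := by group
  have hkcop : IsCoprime k (5 : ℕ) := by
    rw [isCoprime_comm, Int.isCoprime_iff_gcd_eq_one]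
    by_contra hcon
    have h5k : (5 : ℤ) ∣ k := by
      have h6 : Nat.Prime 5 := by norm_num
      have h7 : ¬ Nat.Coprime 5 k.natAbs := hcon
      rw [h6.coprime_iff_not_dvd, not_not] at h7
      exact Int.natCast_dvd.2 h7
    obtain ⟨l, rfl⟩ := h5k
    have h8 : s ^ (5 * l) = 1 := by
      rw [zpow_mul]
      have : s ^ (5 : ℤ) = 1 := by
        have h9 := pow_orderOf_eq_one s
        rw [hso] at h9
        exact_mod_cast h9
      rw [this, one_zpow]
    rw [h8] at hys
    have h10 : s = 1 := by
      calc s = y⁻¹ * (y * s * y⁻¹) * y := by group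
        _ = 1 := by rw [hys]; group
    rw [h10, orderOf_one] at hso
    omega
  have hconj : ∀ (n : ℕ) , y ^ n * s * (y ^ n)⁻¹ = s ^ (k ^ n) := by
    intro n
    induction n with
    | zero => simp
    | succ n ih =>
      calc y ^ (n + 1) * s * (y ^ (n + 1))⁻¹ = y * (y ^ n * s * (y ^ n)⁻¹) * y⁻¹ := by
            rw [pow_succ']; group
        _ = y * s ^ (k ^ n) * y⁻¹ := by rw [ih]
        _ = (y * s * y⁻¹) ^ (k ^ n) := by rw [conj_zpow]
        _ = s ^ (k ^ (n + 1)) := by rw [hys, ← zpow_mul]; congr 1; ring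
  set z : Perm α := y ^ 4 with hz
  have hzH : z ∈ H := H.pow_mem hyH 4
  have hzs : z * s = s * z := by
    have h1 := hconj 4
    have h2 : s ^ (k ^ 4) = s := by
      have h3 : k ^ (5 - 1) ≡ 1 [ZMOD (5 : ℕ)] := Int.ModEq.pow_card_sub_one_eq_one (by norm_num) hkcop
      have h4 : s ^ (k ^ 4) = s ^ (1 : ℤ) := by
        rw [zpow_eq_zpow_iff_modEq, hso]
        exact_mod_cast h3
      rw [h4, zpow_one]
    rw [h2] at h1
    calc z * s = (y ^ 4 * s * (y ^ 4)⁻¹) * y ^ 4 := by rw [hz]; group
      _ = s * z := by rw [h1]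
  have hza : z a = b := by simp [hz, pow_succ, Perm.mul_apply, hya, hyb, hyc]
  have hzb : z b = c := by simp [hz, pow_succ, Perm.mul_apply, hya, hyb, hyc]
  have hzc : z c = a := by simp [hz, pow_succ, Perm.mul_apply, hya, hyb, hyc]
  have hwa : (z ^ 10) a = b := by simp [pow_succ, Perm.mul_apply, hza, hzb, hzc]
  have hwb : (z ^ 10) b = c := by simp [pow_succ, Perm.mul_apply, hza, hzb, hzc]
  have hwc : (z ^ 10) c = a := by simp [pow_succ, Perm.mul_apply, hza, hzb, hzc]
  have hwsupp : (z ^ 10).support = {a, b, c} := by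
    ext w
    rw [Perm.mem_support, Finset.mem_insert, Finset.mem_insert, Finset.mem_singleton]
    constructor
    · intro hw
      by_contra hcon
      apply hw
      apply pow_ten_apply hso hs10 hzs
      intro h
      exact hcon ((hmem w).1 h)
    · rintro (rfl | rfl | rfl)
      · rw [hwa]; exact hab.symm
      · rw [hwb]; exact hbc.symm
      · rw [hwc]; exact hac
  have hw3 : (z ^ 10).IsThreeCycle := by
    rw [← card_support_eq_three_iff, hwsupp]
    exact Finset.card_eq_three.2 ⟨a, b, c, hab, hac, hbc, rfl⟩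
  exact hne (Equiv.Perm.alternatingGroup_le_of_isPreprimitive_of_isThreeCycle_mem hH hw3
    (H.pow_mem hzH 10))

theorem fixes_all {g : Perm α} {a b c : α} (hgc : g.IsCycle) (hc : g c ≠ c)
    (hfix : ∀ d, g d = d → d = a ∨ d = b) {n : Perm α} (hcomm : n * g = g * n) (hna : n a = a)
    (hnb : n b = b) (hnc : n c = c) : n = 1 := by
  ext d
  rw [Perm.one_apply]
  by_cases hd : g d = d
  · rcases hfix d hd with rfl | rfl
    · exact hna
    · exact hnb
  · obtain ⟨j, rfl⟩ := hgc.sameCycle hc hd
    have h1 : Commute n g := hcomm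
    have h2 := congrArg (fun f : Perm α => f c) (h1.zpow_right j).eq
    simp only [Perm.mul_apply] at h2
    rw [h2, hnc]

/-- the powers of a cycle of prime order act freely on its support -/
theorem zpow_eq_one_of_apply {g : Perm α} {p : ℕ} (hp : p.Prime) (hgo : orderOf g = p) {c : α}
    (hc : g c ≠ c) {l : ℤ} (h : (g ^ l) c = c) : g ^ l = 1 := by
  by_contra hne
  apply hc
  have h9 : Subgroup.zpowers (g ^ l) = Subgroup.zpowers g := by
    apply Subgroup.eq_of_le_of_card_ge (Subgroup.zpowers_le.2 (Subgroup.mem_zpowers_iff.2 ⟨l, rfl⟩))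
    rw [Nat.card_zpowers, Nat.card_zpowers, hgo]
    have h3 : orderOf (g ^ l) ∣ p := by
      rw [← hgo, ← Nat.card_zpowers g]
      exact Subgroup.orderOf_dvd_natCard _ (Subgroup.mem_zpowers_iff.2 ⟨l, rfl⟩)
    rcases (Nat.dvd_prime hp).1 h3 with h4 | h4
    · exact absurd (orderOf_eq_one_iff.1 h4) hne
    · exact h4.ge
  have h10 : g ∈ Subgroup.zpowers (g ^ l) := by rw [h9]; exact Subgroup.mem_zpowers g
  obtain ⟨j, hj⟩ := Subgroup.mem_zpowers_iff.1 h10
  have := Perm.zpow_apply_eq_self_of_apply_eq_self h j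
  rwa [hj] at this

theorem comm_of_normalizes {H : Subgroup (Perm α)} (hα : Fintype.card α = 13)
    (hA : H ≤ alternatingGroup α) {g : Perm α} (hgc : g.IsCycle)
    (hgp : g.support.card = 11) (hg : g ∈ H) (h5 : ¬ 5 ∣ Nat.card H) {a b : α} (hab : a ≠ b)
    (ha : g a = a) (hb : g b = b) (hfix : ∀ c, g c = c → c = a ∨ c = b) {n : Perm α} (hn : n ∈ H)
    (hna : n a = a) (hnb : n b = b) {k : ℤ} (hk : n * g * n⁻¹ = g ^ k) : n * g = g * n := by
  have hgo : orderOf g = 11 := by rw [hgc.orderOf, hgp]
  have hp11 : Nat.Prime 11 := by norm_num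
  have hf11 : Fact (Nat.Prime 11) := ⟨hp11⟩
  obtain ⟨c, hc⟩ : ∃ c, g c ≠ c := by
    obtain ⟨c, hc, _⟩ := hgc
    exact ⟨c, hc⟩
  have hnc : g (n c) ≠ n c := by
    intro h
    rcases hfix _ h with h1 | h1
    · have h2 : c = a := n.injective (by rw [h1, hna])
      rw [h2] at hc
      exact hc ha
    · have h2 : c = b := n.injective (by rw [h1, hnb])
      rw [h2] at hc
      exact hc hb
  obtain ⟨i, hi⟩ := hgc.sameCycle hc hnc
  set m : Perm α := (g ^ i)⁻¹ * n with hm
  have hmH : m ∈ H := H.mul_mem (H.inv_mem (H.zpow_mem hg i)) hn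
  have hmc : m c = c := by rw [hm, Perm.mul_apply, Perm.inv_eq_iff_eq, hi]
  have hma : m a = a := by
    rw [hm, Perm.mul_apply, Perm.inv_eq_iff_eq, hna]
    exact (Perm.zpow_apply_eq_self_of_apply_eq_self ha i).symm
  have hmb : m b = b := by
    rw [hm, Perm.mul_apply, Perm.inv_eq_iff_eq, hnb]
    exact (Perm.zpow_apply_eq_self_of_apply_eq_self hb i).symm
  have hmg : m * g * m⁻¹ = g ^ k := by
    calc m * g * m⁻¹ = (g ^ i)⁻¹ * (n * g * n⁻¹) * g ^ i := by rw [hm]; group
      _ = (g ^ i)⁻¹ * g ^ k * g ^ i := by rw [hk]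
      _ = g ^ k := by rw [← zpow_neg, ← zpow_add, ← zpow_add]; congr 1; ring
  have hconj : ∀ (r : ℕ) , m ^ r * g * (m ^ r)⁻¹ = g ^ (k ^ r) := by
    intro r
    induction r with
    | zero => simp
    | succ r ih =>
      calc m ^ (r + 1) * g * (m ^ (r + 1))⁻¹ = m * (m ^ r * g * (m ^ r)⁻¹) * m⁻¹ := by
            rw [pow_succ']; group
        _ = m * g ^ (k ^ r) * m⁻¹ := by rw [ih]
        _ = (m * g * m⁻¹) ^ (k ^ r) := by rw [conj_zpow]
        _ = g ^ (k ^ (r + 1)) := by rw [hmg, ← zpow_mul]; congr 1; ring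
  have hkcop : IsCoprime k (11 : ℕ) := by
    rw [isCoprime_comm, Int.isCoprime_iff_gcd_eq_one]
    by_contra hcon
    have h5k : (11 : ℤ) ∣ k := by
      have h7 : ¬ Nat.Coprime 11 k.natAbs := hcon
      rw [hp11.coprime_iff_not_dvd, not_not] at h7
      exact Int.natCast_dvd.2 h7
    obtain ⟨l, rfl⟩ := h5k
    have h8 : g ^ (11 * l) = 1 := by
      rw [zpow_mul]
      have : g ^ (11 : ℤ) = 1 := by
        have h9 := pow_orderOf_eq_one g
        rw [hgo] at h9
        exact_mod_cast h9
      rw [this, one_zpow]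
    rw [h8] at hmg
    have h10 : g = 1 := by
      calc g = m⁻¹ * (m * g * m⁻¹) * m := by group
        _ = 1 := by rw [hmg]; group
    rw [h10, orderOf_one] at hgo
    omega
  have hm10 : m ^ 10 = 1 := by
    have h1 := hconj 10
    have h2 : g ^ (k ^ 10) = g := by
      have h3 : k ^ (11 - 1) ≡ 1 [ZMOD (11 : ℕ)] := Int.ModEq.pow_card_sub_one_eq_one hp11 hkcop
      have h4 : g ^ (k ^ 10) = g ^ (1 : ℤ) := by
        rw [zpow_eq_zpow_iff_modEq, hgo]
        exact_mod_cast h3
      rw [h4, zpow_one]
    rw [h2] at h1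
    have h5 : m ^ 10 * g = g * m ^ 10 := by
      calc m ^ 10 * g = (m ^ 10 * g * (m ^ 10)⁻¹) * m ^ 10 := by group
        _ = g * m ^ 10 := by rw [h1]
    have hpow : ∀ d, m d = d → (m ^ 10) d = d := fun d hd => by
      have := Perm.zpow_apply_eq_self_of_apply_eq_self hd 10
      exact_mod_cast this
    exact fixes_all hgc hc hfix h5 (hpow a hma) (hpow b hmb) (hpow c hmc)
  have hmo : orderOf m ∣ 2 := by
    have h1 : orderOf m ∣ 2 * 5 := orderOf_dvd_of_pow_eq_one hm10
    have h2 : Nat.Coprime (orderOf m) 5 := by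
      rw [Nat.coprime_comm, Nat.Prime.coprime_iff_not_dvd (by norm_num)]
      intro h3
      exact h5 (h3.trans (Subgroup.orderOf_dvd_natCard H hmH))
    exact h2.dvd_of_dvd_mul_right h1
  rcases (Nat.dvd_prime Nat.prime_two).1 hmo with h1 | h1
  · -- m = 1
    rw [orderOf_eq_one_iff, hm, inv_mul_eq_one] at h1
    rw [← h1]
    exact ((Commute.refl g).zpow_left i).eq
  · exfalso
    have hm1 : m ≠ 1 := by
      intro h
      rw [h, orderOf_one] at h1
      omega
    have hm2 : m ^ 2 = 1 := by rw [← h1, pow_orderOf_eq_one]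
    -- fixed points
    have hfixm : ∀ d, m d = d → d = a ∨ d = b ∨ d = c := by
      intro d hd
      by_cases hgd : g d = d
      · rcases hfix d hgd with h2 | h2
        · exact Or.inl h2
        · exact Or.inr (Or.inl h2)
      · obtain ⟨j, rfl⟩ := hgc.sameCycle hc hgd
        by_contra hcon
        have hdc : (g ^ j) c ≠ c := fun h => hcon (Or.inr (Or.inr h))
        -- m g^j c = g^(k j) c
        have h3 : m * g ^ j = g ^ (k * j) * m := by
          have h4 : m * g ^ j * m⁻¹ = g ^ (k * j) := by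
            rw [← conj_zpow, hmg, zpow_mul]
          rw [← h4]; group
        have h5 := congrArg (fun f : Perm α => f c) h3
        simp only [Perm.mul_apply] at h5
        rw [hd, hmc] at h5
        -- (g ^ (k j - j)) c = c
        have h6 : (g ^ (k * j - j)) c = c := by
          have h7 : g ^ (k * j - j) = (g ^ j)⁻¹ * g ^ (k * j) := by
            rw [← zpow_neg, ← zpow_add]; congr 1; ring
          rw [h7, Perm.mul_apply, Perm.inv_eq_iff_eq, ← h5]
        have h8 := zpow_eq_one_of_apply hp11 hgo hc h6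
        have h9 : (11 : ℤ) ∣ (k - 1) * j := by
          have h10 := orderOf_dvd_iff_zpow_eq_one.2 h8
          rw [hgo] at h10
          have h11 : (k - 1) * j = k * j - j := by ring
          rw [h11]
          exact_mod_cast h10
        have hpr : Prime (11 : ℤ) := by
          have := Nat.prime_iff_prime_int.1 hp11
          exact_mod_cast this
        rcases hpr.dvd_or_dvd h9 with h12 | h12
        · -- g^k = g
          have h13 : g ^ k = g := by
            have h14 : g ^ k = g ^ (1 : ℤ) := by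
              rw [zpow_eq_zpow_iff_modEq, hgo]
              exact (Int.modEq_iff_dvd.2 (by exact_mod_cast h12)).symm
            rw [h14, zpow_one]
          rw [h13] at hmg
          have h15 : m * g = g * m := by
            calc m * g = (m * g * m⁻¹) * m := by group
              _ = g * m := by rw [hmg]
          exact hm1 (fixes_all hgc hc hfix h15 hma hmb hmc)
        · apply hdc
          have h16 : g ^ j = 1 := by
            rw [← orderOf_dvd_iff_zpow_eq_one, hgo]
            exact_mod_cast h12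
          rw [h16]; rfl
    have hac : a ≠ c := fun h => hc (h ▸ ha)
    have hbc : b ≠ c := fun h => hc (h ▸ hb)
    have hsupp : m.supportᶜ = {a, b, c} := by
      ext d
      rw [Finset.mem_compl, Perm.mem_support, not_not, Finset.mem_insert, Finset.mem_insert,
        Finset.mem_singleton]
      constructor
      · exact hfixm d
      · rintro (rfl | rfl | rfl)
        · exact hma
        · exact hmb
        · exact hmc
    have hcard : m.support.card = 10 := by
      have h2 : (m.supportᶜ).card = 3 := by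
        rw [hsupp]
        exact Finset.card_eq_three.2 ⟨a, b, c, hab, hac, hbc, rfl⟩
      rw [Finset.card_compl, hα] at h2
      have h3 := Finset.card_le_univ m.support
      omega
    obtain ⟨r, hr⟩ := Perm.cycleType_prime_order (σ := m) (by rw [h1]; norm_num)
    have h4 := Perm.sum_cycleType m
    have h6 : Multiset.card m.cycleType = 5 := by
      rw [hr, Multiset.sum_replicate, h1, smul_eq_mul, hcard] at h4
      rw [hr, Multiset.card_replicate]
      omega
    have h7 : Perm.sign m = -1 := by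
      rw [Perm.sign_of_cycleType, h4, hcard, h6]
      decide
    have h8 : Perm.sign m = 1 := Perm.mem_alternatingGroup.1 (hA hmH)
    rw [h8] at h7
    exact absurd h7 (by decide)

theorem false_of_not_five_dvd {H : Subgroup (Perm α)} (hα : Fintype.card α = 13)
    (hA : H ≤ alternatingGroup α) (h3 : IsMultiplyPretransitive H α 3) {g : Perm α} (hgc : g.IsCycle)
    (hgp : g.support.card = 11) (hg : g ∈ H) (h5 : ¬ 5 ∣ Nat.card H) : False := by
  have hgo : orderOf g = 11 := by rw [hgc.orderOf, hgp]
  have hp11 : Nat.Prime 11 := by norm_num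
  have hf11 : Fact (Nat.Prime 11) := ⟨hp11⟩
  obtain ⟨a, b, hab, ha, hb, hfix⟩ := exists_fixed (p := 11) hα hgp
  have h2 : IsMultiplyPretransitive H α 2 :=
    isMultiplyPretransitive_of_le (n := 3) (by norm_num) (by rw [Nat.card_eq_fintype_card, hα]; norm_num)
  set K : Subgroup H := fixingSubgroup H ({a, b} : Set α) with hK
  have hc2 := card_fixing h2 ({a, b} : Set α) (Set.ncard_pair hab)
  rw [hα, ← hK] at hc2
  have hKmem : ∀ t : H, t ∈ K ↔ (t : Perm α) a = a ∧ (t : Perm α) b = b := by
    intro t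
    rw [hK, mem_fixingSubgroup_iff]
    constructor
    · intro h
      exact ⟨h a (by simp), h b (by simp)⟩
    · rintro ⟨h1, h2⟩ w (rfl | rfl)
      · exact h1
      · exact h2
  have hgK : (⟨g, hg⟩ : H) ∈ K := (hKmem _).2 ⟨ha, hb⟩
  have hdvd13 : Nat.card H ∣ (13 : ℕ).factorial := by
    have h1 := Subgroup.card_subgroup_dvd_card H
    rwa [Nat.card_perm, Nat.card_eq_fintype_card (α := α), hα] at h1
  have h121 : ¬ 11 ^ 2 ∣ Nat.card K := by
    intro h
    have h1 : 11 ^ 2 ∣ (13 : ℕ).factorial := (h.trans (Subgroup.card_subgroup_dvd_card K)).trans hdvd13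
    revert h1
    decide
  have h11 : 11 ∣ Nat.card K := by
    have h2 := Subgroup.orderOf_dvd_natCard K hgK
    rwa [Subgroup.orderOf_mk, hgo] at h2
  have hfac : (Nat.card K).factorization 11 = 1 := by
    have hne : Nat.card K ≠ 0 := Nat.card_pos.ne'
    apply le_antisymm
    · by_contra hcon
      exact h121 ((hp11.pow_dvd_iff_le_factorization hne).2 (by omega))
    · exact (hp11.pow_dvd_iff_le_factorization hne).1 (by simpa using h11)
  set x : K := ⟨⟨g, hg⟩, hgK⟩ with hx
  have hxo : orderOf x = 11 := by rw [hx, Subgroup.orderOf_mk, Subgroup.orderOf_mk, hgo]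
  have hzc : Nat.card (Subgroup.zpowers x) = 11 ^ (Nat.card K).factorization 11 := by
    rw [Nat.card_zpowers, hfac, pow_one, hxo]
  set P : Sylow 11 K := Sylow.ofCard _ hzc with hP
  have hPc : (P : Subgroup K) = Subgroup.zpowers x := rfl
  have hNC : Subgroup.normalizer ((P : Subgroup K) : Set K) ≤ Subgroup.centralizer ((P : Subgroup K) : Set K) := by
    intro n hn
    rw [hPc] at hn ⊢
    have h1 := (Subgroup.mem_normalizer_iff.1 hn x).1 (Subgroup.mem_zpowers x)
    obtain ⟨k, hk⟩ := Subgroup.mem_zpowers_iff.1 h1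
    have hk' : (n.1.1 : Perm α) * g * (n.1.1)⁻¹ = g ^ k := by
      have := congrArg (fun t : K => (t.1.1 : Perm α)) hk
      simpa [hx] using this.symm
    have hnK := (hKmem n.1).1 n.2
    have h4 := comm_of_normalizes hα hA hgc hgp hg h5 hab ha hb hfix n.1.2 hnK.1 hnK.2 hk'
    have h6 : Commute n x := by
      apply Subtype.ext
      apply Subtype.ext
      exact h4
    rw [Subgroup.mem_centralizer_iff]
    intro y hy
    obtain ⟨j, rfl⟩ := Subgroup.mem_zpowers_iff.1 hy
    exact (h6.zpow_right j).eq.symm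
  set M : Subgroup K := (MonoidHom.transferSylow P hNC).ker with hM
  have hMc : M.IsComplement' (P : Subgroup K) := MonoidHom.ker_transferSylow_isComplement' P hNC
  have hMn : M.Normal := inferInstance
  have hMcard : Nat.card M * 11 = Nat.card K := by
    have h1 := hMc.card_mul_card
    rwa [hPc, Nat.card_zpowers, hxo] at h1
  have hMidx : M.index = 11 := by
    have h1 := Subgroup.card_mul_index M
    rw [← hMcard] at h1
    exact Nat.eq_of_mul_eq_mul_left Nat.card_pos h1
  -- M fixes every point of the support of g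
  have hMfix : ∀ c, g c ≠ c → ∀ t : K, t ∈ M → (t.1.1 : Perm α) c = c := by
    intro c hc
    have hac : a ≠ c := fun h => hc (h ▸ ha)
    have hbc : b ≠ c := fun h => hc (h ▸ hb)
    set Kc : Subgroup H := fixingSubgroup H ({a, b, c} : Set α) with hKc
    have hc3 := card_fixing h3 ({a, b, c} : Set α) (by
      rw [Set.ncard_eq_three]
      exact ⟨a, b, c, hab, hac, hbc, rfl⟩)
    rw [hα, ← hKc] at hc3
    have hle : Kc ≤ K := by
      intro t ht
      rw [hKmem]
      rw [hKc, mem_fixingSubgroup_iff] at ht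
      exact ⟨ht a (by simp), ht b (by simp)⟩
    have hcardKc : Nat.card Kc * 11 = Nat.card K := by
      norm_num [Nat.factorial] at hc2 hc3
      omega
    have hKcM : Kc.subgroupOf K ≤ M := by
      intro t ht
      have e1 : t ^ 11 ∈ M := by
        rw [← hMidx]; exact Subgroup.pow_index_mem M t
      have e2 : orderOf t ∣ Nat.card Kc := by
        have := Subgroup.orderOf_dvd_natCard Kc (x := t.1) ht
        rwa [Subgroup.orderOf_coe] at this
      have e3 : Nat.Coprime 11 (orderOf t) := by
        rw [hp11.coprime_iff_not_dvd]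
        intro h
        apply h121
        rw [← hcardKc, pow_two]
        exact Nat.mul_dvd_mul_right (h.trans e2) 11
      -- t is a power of t^11
      obtain ⟨r, hr⟩ := exists_pow_eq_self_of_coprime e3
      rw [← hr]
      exact M.pow_mem e1 r
    have hcardeq : Nat.card (Kc.subgroupOf K) = Nat.card M := by
      have e4 : Nat.card (Kc.subgroupOf K) = Nat.card Kc :=
        Nat.card_congr (Subgroup.subgroupOfEquivOfLe hle).toEquiv
      rw [e4]
      omega
    have hMeq : Kc.subgroupOf K = M := Subgroup.eq_of_le_of_card_ge hKcM hcardeq.ge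
    intro t ht
    rw [← hMeq, Subgroup.mem_subgroupOf, hKc, mem_fixingSubgroup_iff] at ht
    exact ht c (by simp)
  have hMbot : M = ⊥ := by
    rw [Subgroup.eq_bot_iff_forall]
    intro t ht
    apply Subtype.ext
    apply Subtype.ext
    ext d
    show (t.1.1 : Perm α) d = d
    have h4 := (hKmem t.1).1 t.2
    by_cases hd : g d = d
    · rcases hfix d hd with rfl | rfl
      · exact h4.1
      · exact h4.2
    · exact hMfix d hd t ht
  rw [hMbot, Subgroup.card_bot, one_mul] at hMcard
  exact not_six_dvd_of_card (p := 11) h3 hα hgc hgp hg hab ha hb hfix hMcard.symm (by norm_num)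

/-- **degree 13** -/
theorem eq_alternating_thirteen {H : Subgroup (Perm α)} (hα : Fintype.card α = 13)
    (hA : H ≤ alternatingGroup α) (hH : IsPreprimitive H α) {g : Perm α} (hgc : g.IsCycle)
    (hgp : g.support.card = 11) (hg : g ∈ H) : H = alternatingGroup α := by
  have h3 := three_transitive hH (p := 11) (by norm_num) hα hgc hgp hg
  by_contra hne
  have hne' : ¬ alternatingGroup α ≤ H := fun h => hne (le_antisymm hA h)
  by_cases h5 : 5 ∣ Nat.card H
  · exact false_of_five_dvd hα hH h3 hne' h5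
  · exact false_of_not_five_dvd hα hA h3 hgc hgp hg h5

end Cfsg.Agent.H529.TwinCycle
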