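import Cfsg.Agent.H529.NMove
import Cfsg.Agent.H531.RMPsu

/-!
# `NMove` for the linear, symplectic and unitary groups

Same proofs as in `Cfsg.Agent.H531` (helper531), `Cfsg.Agent.H71` (helper71), `Cfsg.Agent.H522` (helper522), with the
criteria of `Cfsg.Agent.H529.NMv`.
-/

set_option autoImplicit false

namespace Cfsg.Agent.H529.NMvLin

open Cfsg.Agent.H531 Cfsg.Agent.H529.NMv

universe v

section PSL

open Cfsg.Agent.ClassicalGeometry.AutPSL.Auto Cfsg.Agent.ClassicalGeometry.AutPSL.Main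
open Cfsg.Agent.ClassicalGeometry.AutPSL.Root
open Cfsg.Agent.KFacts.MulOdd.TypeA Cfsg.Agent.ChevalleyStructure.SL2Hom Cfsg.Agent.H531.RMPsl

variable {F : Type v} [Field F] {n : ℕ}

theorem nMove_psl [Fintype F] (hn : 2 ≤ n) (h4 : n = 2 → 4 ≤ Fintype.card F)
    [Finite (Matrix.ProjectiveSpecialLinearGroup (Fin n) F)]
    [IsSimpleGroup (Matrix.ProjectiveSpecialLinearGroup (Fin n) F)]
    (hna : ¬ IsMulCommutative (Matrix.ProjectiveSpecialLinearGroup (Fin n) F))
    (h2 : 2 ∣ Nat.card (Matrix.ProjectiveSpecialLinearGroup (Fin n) F)) :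
    NMove (Matrix.ProjectiveSpecialLinearGroup (Fin n) F) := by
  obtain ⟨ρ, hρ, -⟩ := H254.exists_ringAut F
  have hco := H254.PSL.copIn hn h4 hna h2 ρ hρ
  have hab : (⟨0, by omega⟩ : Fin n) ≠ ⟨1, by omega⟩ := by
    intro h
    have := congrArg Fin.val h
    simp at this
  refine NMove.of_sl h2 ((lift).comp fld) (FieldConj.of_copIn (ρ := ρ) _ hco)
    ((QuotientGroup.mk' _).comp (blk hab)) ?_ ?_
  · intro τ u
    show lift (fld τ) (pr (blk hab (diagSL F u))) = pr (blk hab (diagSL F _))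
    rw [lift_pr]
    congr 1
    show Matrix.SpecialLinearGroup.map (τ : F →+* F) (blk hab (diagSL F u)) = _
    rw [map_blk, map_diagSL]
  · intro t ht
    have h1 : blk hab (up t) ∈ Subgroup.center (Matrix.SpecialLinearGroup (Fin n) F) :=
      (QuotientGroup.eq_one_iff _).1 ht
    rw [Matrix.SpecialLinearGroup.mem_center_iff] at h1
    obtain ⟨r, -, hr⟩ := h1
    have h3 := congrFun (congrFun hr ⟨0, by omega⟩) ⟨1, by omega⟩
    have h4 : (blk hab (up t)).1 ⟨0, by omega⟩ ⟨1, by omega⟩ = t := by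
      show NN (⟨0, by omega⟩ : Fin n) ⟨1, by omega⟩ (up t).1 ⟨0, by omega⟩ ⟨1, by omega⟩ = t
      simp [NN, up]
    rw [h4] at h3
    rw [← h3]
    simp

end PSL

section PSP

open Cfsg Cfsg.Agent.KFacts.MulOdd.TypeA Cfsg.Agent.ChevalleyStructure.SL2Hom
open Cfsg.Agent.ClassicalGeometry.SympBasic Cfsg.Agent.ClassicalGeometry.SympAutSemi
  Cfsg.Agent.ClassicalGeometry.SympGamma Cfsg.Agent.H531.RMPsp
open scoped Matrix

variable {F : Type v} [Field F] {m : ℕ}

theorem nMove_psp [Fintype F] (hm : 2 ≤ m) (h3 : m = 2 → 3 ≤ Fintype.card F) [Finite (PSp m F)]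
    [IsSimpleGroup (PSp m F)] (hna : ¬ IsMulCommutative (PSp m F)) (h2 : 2 ∣ Nat.card (PSp m F)) :
    NMove (PSp m F) := by
  obtain ⟨ρ, hρ, -⟩ := H254.exists_ringAut F
  have hco := H254.PSP.copIn hm h3 hna h2 ρ hρ
  let i₀ : Fin m := ⟨0, by omega⟩
  have hab : (Sum.inl i₀ : Fin m ⊕ Fin m) ≠ Sum.inr i₀ := Sum.inl_ne_inr
  refine NMove.of_sl h2 (H254.PSP.fld m) (FieldConj.of_copIn (ρ := ρ) _ hco)
    ((QuotientGroup.mk' _).comp (emb i₀)) ?_ ?_
  · intro τ u
    show Psi m F (H254.PSP.frobSS m τ) (QuotientGroup.mk (emb i₀ (diagSL F u))) =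
      QuotientGroup.mk (emb i₀ (diagSL F _))
    rw [Psi_mk, conjHom_emb, map_diagSL]
  · intro t ht
    have h1 : emb i₀ (up t) ∈ Subgroup.center (Matrix.symplecticGroup (Fin m) F) :=
      (QuotientGroup.eq_one_iff _).1 ht
    -- commutes with the lower root element
    have h4 := Subgroup.mem_center_iff.1 h1 (emb i₀ (lo 1))
    rw [← map_mul, ← map_mul] at h4
    have h5 : NN (Sum.inl i₀) (Sum.inr i₀) (lo 1 * up t : Matrix.SpecialLinearGroup (Fin 2) F).1 =
        NN (Sum.inl i₀) (Sum.inr i₀) (up t * lo 1 : Matrix.SpecialLinearGroup (Fin 2) F).1 :=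
      congrArg Subtype.val h4
    have h6 := congrFun (congrFun h5 (Sum.inl i₀)) (Sum.inl i₀)
    have h7 : (lo 1 * up t : Matrix.SpecialLinearGroup (Fin 2) F).1 0 0 = 1 := by
      show (!![(1 : F), 0; 1, 1] * !![(1 : F), t; 0, 1]) 0 0 = 1
      simp [Matrix.mul_apply, Fin.sum_univ_two]
    have h8 : (up t * lo 1 : Matrix.SpecialLinearGroup (Fin 2) F).1 0 0 = 1 + t := by
      show (!![(1 : F), t; 0, 1] * !![(1 : F), 0; 1, 1]) 0 0 = 1 + t
      simp [Matrix.mul_apply, Fin.sum_univ_two]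
    simp only [NN, if_true] at h6
    rw [h7, h8] at h6
    exact (left_eq_add.1 h6)

end PSP

section PSU

open Cfsg Cfsg.Agent.KFacts.MulOdd.TypeA Cfsg.Agent.ChevalleyStructure.SL2Hom
open Cfsg.Agent.LieClassical.HermBasic Cfsg.Agent.LieClassical.HermSiegel
  Cfsg.Agent.LieClassical.HermGen
  Cfsg.Agent.ClassicalGeometry.UnitAutBasic Cfsg.Agent.ClassicalGeometry.PSUAutCount
open Cfsg.Agent.H531.RMPsp Cfsg.Agent.H531.RMPsl Cfsg.Agent.H531.RMPsu
open scoped Matrix

variable {F : Type v} [Field F] {n q : ℕ}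

theorem nMove_psu [Fintype F] (hF : Fintype.card F = q ^ 2) (hn : 3 ≤ n) (h32 : ¬ (n = 3 ∧ q = 2))
    [Finite (PSU n F q)] [IsSimpleGroup (PSU n F q)] (hna : ¬ IsMulCommutative (PSU n F q))
    (h2 : 2 ∣ Nat.card (PSU n F q)) : NMove (PSU n F q) := by
  obtain ⟨ρ, hρ, -⟩ := H254.exists_ringAut F
  have hco := H254.PSUn.copIn hF hn h32 hna ρ hρ
  have hab : (⟨0, by omega⟩ : Fin n) ≠ ⟨1, by omega⟩ := by
    intro h
    have := congrArg Fin.val h
    simp at this
  have hw := weyl_mem (F := F) (q := q) hab hF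
  have hreal : ∀ u : normOne F q, (⟨blk hab (weylSL F), hw⟩ : SU n F q) * tor hab u *
      (⟨blk hab (weylSL F), hw⟩ : SU n F q)⁻¹ = (tor hab u)⁻¹ := by
    intro u
    apply Subtype.ext
    show blk hab (weylSL F) * blk hab (diagSL F u) * (blk hab (weylSL F))⁻¹ = (blk hab (diagSL F u))⁻¹
    rw [← map_inv, ← map_inv, ← map_mul, ← map_mul, weylSL_conj]
  refine NMove.of_field h2 (H254.PSUn.fld n q) (FieldConj.of_copIn (ρ := ρ) _ hco) (normOne F q)
    ((pr n F q).comp (tor hab)) ?_ ?_ ?_ 1 ?_ ?_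
  · intro τ u u' huu
    rw [H254.PSUn.fld_apply]
    show toAut (1 : GU n F q) τ (pr n F q (tor hab u)) = pr n F q (tor hab u')
    rw [toAut_pr, semiConj_tor hab τ u u' huu]
  · intro u hu
    have h1 : tor hab u ∈ Subgroup.center (SU n F q) := (QuotientGroup.eq_one_iff _).1 hu
    have h3 := Subgroup.mem_center_iff.1 h1 ⟨blk hab (weylSL F), hw⟩
    have h4 := hreal u
    rw [h3, mul_inv_cancel_right] at h4
    have h5 : tor hab u ^ 2 = 1 := by
      rw [sq]
      nth_rewrite 1 [h4]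
      exact inv_mul_cancel _
    rw [← map_pow] at h5
    have h6 : blk hab (diagSL F ((u ^ 2 : normOne F q) : Fˣ)) = 1 := congrArg Subtype.val h5
    have h7 : diagSL F ((u ^ 2 : normOne F q) : Fˣ) = 1 := blk_injective hab (by rw [h6, map_one])
    apply Subtype.ext
    apply Units.ext
    have h8 := congrFun (congrFun (congrArg Subtype.val h7) 0) 0
    exact h8
  · intro u
    refine ⟨pr n F q ⟨blk hab (weylSL F), hw⟩, ?_⟩
    show pr n F q _ * pr n F q (tor hab u) * (pr n F q _)⁻¹ = (pr n F q (tor hab u))⁻¹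
    rw [← map_mul, ← map_inv, ← map_mul, hreal, map_inv]
  · intro p hp hd
    exact absurd (Nat.dvd_one.1 hd) hp.one_lt.ne'
  · intro τ hτ
    rw [eq_one_of_fix hF τ hτ, map_one, one_pow]

end PSU

end Cfsg.Agent.H529.NMvLin
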