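import Cfsg.Agent.H746.PrimV2
import Cfsg.Agent.OddOrderLocal.FitCores

/-!
# blinA for S4166 / S4308 (helper529, for helper532)

`L ≤ GL(a, t)` normalised by a coprime element `s` of prime order `q` with `|V| - 1 = |L : C_L(s)| (|C_V(s)| - 1)`.
An element `x ∈ L` of primitive prime order whose subgroup is normalised but not centralised by `s` generates a normal
subgroup of `L`.
-/

set_option autoImplicit false
set_option linter.unusedSectionVars false
set_option linter.style.haveILetI false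

namespace Cfsg.Agent.H529.BlinA

open Subgroup Cfsg Cfsg.Agent.H746.PrimElem Cfsg.Agent.OddOrderLocal.FitCores

theorem relIndex_dvd_index {G : Type*} [Group G] [Finite G] (C H : Subgroup G) [H.Normal] : C.relIndex H ∣ C.index := by
  have h1 : (C ⊓ H).relIndex H * H.relIndex (C ⊔ H) = (C ⊓ H).relIndex (C ⊔ H) :=
    relIndex_mul_relIndex _ _ _ inf_le_right le_sup_right
  have h2 : (C ⊓ H).relIndex C * C.relIndex (C ⊔ H) = (C ⊓ H).relIndex (C ⊔ H) :=
    relIndex_mul_relIndex _ _ _ inf_le_left le_sup_left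
  have h3 : H.relIndex (C ⊔ H) = H.relIndex C := relIndex_sup_right C H
  have h4 : (C ⊓ H).relIndex C = H.relIndex C := by rw [inf_comm, inf_relIndex_right]
  have h5 : (C ⊓ H).relIndex H = C.relIndex H := inf_relIndex_right C H
  rw [h5, h3] at h1
  rw [h4, mul_comm] at h2
  have h6 : 0 < H.relIndex C := Nat.pos_of_ne_zero (H.subgroupOf C).index_ne_zero_of_finite
  have h7 : C.relIndex H = C.relIndex (C ⊔ H) := Nat.eq_of_mul_eq_mul_right h6 (h1.trans h2.symm)
  rw [h7]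
  exact relIndex_dvd_index_of_le le_sup_left

/-- `B` normalised by `L`, `B ≤ L`: `|B : C_B(s)|` divides `|L : C_L(s)|`. -/
theorem relIndex_dvd_relIndex {G : Type*} [Group G] [Finite G] (C L B : Subgroup G) (hBL : B ≤ L)
    (hn : L ≤ normalizer (B : Set G)) : C.relIndex B ∣ C.relIndex L := by
  haveI : (B.subgroupOf L).Normal := (normal_subgroupOf_iff_le_normalizer hBL).2 hn
  have h1 := relIndex_dvd_index (C.subgroupOf L) (B.subgroupOf L)
  rw [relIndex_subgroupOf hBL] at h1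
  exact h1

theorem arith {t a q n f : ℕ} (ht : 2 ≤ t) (ha : 0 < a) (hqa : q ∣ a) (hq : q.Prime)
    (h : t ^ a - 1 = n * (t ^ (a / q) - 1)) (hf : f.Prime) (hfn : f ∣ n) (hfq : f ≠ q) : q ∣ f - 1 := by
  haveI : Fact f.Prime := ⟨hf⟩
  obtain ⟨b, rfl⟩ := hqa
  have hb : b ≠ 0 := by rintro rfl; simp at ha
  rw [Nat.mul_div_cancel_left _ hq.pos] at h
  have hT : 2 ≤ t ^ b := le_trans ht (Nat.le_self_pow hb t)
  set T := t ^ b with hTdef
  have hTq : t ^ (q * b) = T ^ q := by rw [hTdef, ← pow_mul, mul_comm]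
  rw [hTq] at h
  have h1 : n = ∑ i ∈ Finset.range q, T ^ i := by
    have h2 := Nat.geomSum_eq hT q
    rw [h2, h, Nat.mul_div_cancel _ (by omega)]
  have h3 : ((T : ℕ) : ZMod f) ^ q = 1 := by
    have h4 : f ∣ T ^ q - 1 := by
      rw [h]; exact hfn.mul_right _
    have h5 : T ^ q ≡ 1 [MOD f] := ((Nat.modEq_iff_dvd' (Nat.one_le_pow _ _ (by omega))).2 h4).symm
    have h6 := (ZMod.natCast_eq_natCast_iff _ _ _).2 h5
    push_cast at h6
    exact h6
  have h4 : ((T : ℕ) : ZMod f) ≠ 1 := by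
    intro h5
    have h6 : ((n : ℕ) : ZMod f) = 0 := (ZMod.natCast_eq_zero_iff _ _).2 hfn
    rw [h1] at h6
    push_cast at h6
    rw [h5] at h6
    simp only [one_pow, Finset.sum_const, Finset.card_range, nsmul_eq_mul, mul_one] at h6
    rw [ZMod.natCast_eq_zero_iff] at h6
    exact hfq ((Nat.prime_dvd_prime_iff_eq hf hq).1 h6)
  have h5 : orderOf ((T : ℕ) : ZMod f) = q := by
    haveI : Fact q.Prime := ⟨hq⟩
    exact orderOf_eq_prime h3 h4
  have h6 : ((T : ℕ) : ZMod f) ≠ 0 := by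
    intro h7
    rw [h7, zero_pow hq.ne_zero] at h3
    exact zero_ne_one h3
  rw [← h5]
  exact orderOf_dvd_of_pow_eq_one (ZMod.pow_card_sub_one_eq_one h6)

variable {t a l : ℕ} [Fact t.Prime] {V : Type*} [AddCommGroup V] [Module (ZMod t) V] [Finite V]
  {x : V ≃ₗ[ZMod t] V}

/-- an element of order dividing `l` commuting with `x` is a power of `x`. -/
theorem cyc (h : Prim t a l x) {y : V ≃ₗ[ZMod t] V} (hy : y ^ l = 1) (hc : y * x = x * y) : y ∈ zpowers x := by
  haveI := h.nontrivial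
  obtain ⟨L, _, _, _, ι, hcomm, hsurj, hinj⟩ := h.exists_field
  let D : FieldData x L := ⟨ι, hcomm, hsurj, hinj⟩
  have hι : Function.Injective ι := D.injective
  have hlift : ∀ c : V ≃ₗ[ZMod t] V, c * x = x * c → ∃ f, ι f = (c : V →ₗ[ZMod t] V) := fun c hc =>
    hsurj _ (fun v => LinearEquiv.congr_fun hc v)
  obtain ⟨ξ, hξ⟩ := hlift x rfl
  obtain ⟨η, hη⟩ := hlift y hc
  have hpow : ∀ (c : V ≃ₗ[ZMod t] V) (f : L), ι f = (c : V →ₗ[ZMod t] V) →
      ∀ n : ℕ, ι (f ^ n) = ((c ^ n : V ≃ₗ[ZMod t] V) : V →ₗ[ZMod t] V) := by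
    intro c f hf n
    induction n with
      | zero => rw [pow_zero, pow_zero, map_one]; rfl
      | succ n ih => rw [pow_succ, pow_succ, map_mul, ih, hf]; rfl
  have hone : ∀ (c : V ≃ₗ[ZMod t] V) (f : L), ι f = (c : V →ₗ[ZMod t] V) → ∀ n : ℕ, c ^ n = 1 → f ^ n = 1 := by
    intro c f hf n hn
    apply hι
    rw [hpow c f hf n, hn, map_one]
    rfl
  have hone' : ∀ (c : V ≃ₗ[ZMod t] V) (f : L), ι f = (c : V →ₗ[ZMod t] V) → ∀ n : ℕ, f ^ n = 1 → c ^ n = 1 := by
    intro c f hf n hn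
    have h1 := hpow c f hf n
    rw [hn, map_one] at h1
    apply LinearEquiv.ext
    intro v
    exact (LinearMap.congr_fun h1 v).symm
  have hord : orderOf ξ = l := by
    rw [← h.hx]
    exact orderOf_eq_orderOf_iff.2 fun n => ⟨hone' x ξ hξ n, hone x ξ hξ n⟩
  have hprim : IsPrimitiveRoot ξ l := by
    rw [← hord]; exact IsPrimitiveRoot.orderOf ξ
  haveI : NeZero l := ⟨h.hl.ne_zero⟩
  obtain ⟨i, _, hi⟩ := hprim.eq_pow_of_pow_eq_one (hone y η hη l hy)
  refine ⟨i, ?_⟩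
  apply LinearEquiv.ext
  intro v
  have h1 := hpow x ξ hξ i
  rw [hi, hη] at h1
  have h2 := LinearMap.congr_fun h1 v
  change (x ^ (i : ℤ)) v = y v
  rw [zpow_natCast]
  exact h2.symm

/-- `x` of prime order normalising the subgroup of order `l` generated by `y`: they commute. -/
theorem comm_of_norm {G : Type*} [Group G] (hl : l.Prime) {x y : G} (hx : x ^ l = 1) (hy : orderOf y = l)
    (hn : x * y * x⁻¹ ∈ zpowers y) : x * y = y * x := by
  haveI : Fact l.Prime := ⟨hl⟩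
  haveI : NeZero l := ⟨hl.ne_zero⟩
  have hfin : IsOfFinOrder y := orderOf_pos_iff.1 (by rw [hy]; exact hl.pos)
  obtain ⟨k, hk⟩ := (hfin.mem_powers_iff_mem_zpowers).2 hn
  change y ^ k = x * y * x⁻¹ at hk
  have h1 : ∀ n : ℕ, x ^ n * y * (x ^ n)⁻¹ = y ^ (k ^ n) := by
    intro n
    induction n with
    | zero => simp
    | succ n ih =>
      calc x ^ (n + 1) * y * (x ^ (n + 1))⁻¹ = x * (x ^ n * y * (x ^ n)⁻¹) * x⁻¹ := by rw [pow_succ']; group
        _ = x * y ^ (k ^ n) * x⁻¹ := by rw [ih]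
        _ = (x * y * x⁻¹) ^ (k ^ n) := by rw [conj_pow]
        _ = y ^ (k ^ (n + 1)) := by rw [← hk, ← pow_mul, pow_succ']
  have h2 := h1 l
  rw [hx, one_mul, inv_one, mul_one] at h2
  have h3 : k ^ l ≡ 1 [MOD l] := by
    rw [← hy]
    apply pow_eq_pow_iff_modEq.1
    rw [hy, pow_one, ← h2]
  have h4 : k ^ l ≡ k [MOD l] := by
    rw [← ZMod.natCast_eq_natCast_iff]
    push_cast
    exact ZMod.pow_card _
  have h5 : k ≡ 1 [MOD l] := h4.symm.trans h3
  have h6 : y ^ k = y ^ 1 := by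
    apply pow_eq_pow_iff_modEq.2
    rw [hy]; exact h5
  rw [pow_one] at h6
  rw [h6] at hk
  calc x * y = x * y * x⁻¹ * x := by group
    _ = y * x := by rw [← hk]

theorem zpowers_eq {G : Type*} [Group G] [Finite G] (hl : l.Prime) {x y : G} (hx : orderOf x = l)
    (hy : y ∈ zpowers x) (hy1 : y ≠ 1) : zpowers y = zpowers x := by
  apply Subgroup.eq_of_le_of_card_ge
  · rwa [zpowers_le]
  · rw [Nat.card_zpowers, Nat.card_zpowers, hx]
    have h1 : orderOf y ∣ l := by rw [← hx]; exact orderOf_dvd_of_mem_zpowers hy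
    rcases (Nat.dvd_prime hl).1 h1 with h2 | h2
    · exact absurd (orderOf_eq_one_iff.1 h2) hy1
    · rw [h2]

/-- the commutators with `s` generate a normal subgroup. -/
theorem conj_mem_K {G : Type*} [Group G] {L : Subgroup G} {s : G} {g : G} (hg : g ∈ L) {k : G}
    (hk : k ∈ closure {x | ∃ l ∈ L, x = s * l * s⁻¹ * l⁻¹}) :
    g * k * g⁻¹ ∈ closure {x | ∃ l ∈ L, x = s * l * s⁻¹ * l⁻¹} := by
  induction hk using closure_induction with
  | mem x hx =>
    obtain ⟨m, hm, rfl⟩ := hx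
    have h1 : g * (s * m * s⁻¹ * m⁻¹) * g⁻¹ = (s * g * s⁻¹ * g⁻¹)⁻¹ * (s * (g * m) * s⁻¹ * (g * m)⁻¹) := by group
    rw [h1]
    exact mul_mem (inv_mem (subset_closure ⟨g, hg, rfl⟩)) (subset_closure ⟨g * m, mul_mem hg hm, rfl⟩)
  | one => simp
  | mul x y _ _ hx hy =>
    have h1 : g * (x * y) * g⁻¹ = g * x * g⁻¹ * (g * y * g⁻¹) := by group
    rw [h1]; exact mul_mem hx hy
  | inv x _ hx =>
    have h1 : g * x⁻¹ * g⁻¹ = (g * x * g⁻¹)⁻¹ := by group
    rw [h1]; exact inv_mem hx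

theorem conj_s_mem_K {G : Type*} [Group G] {L : Subgroup G} {s : G} (hs : ∀ g ∈ L, s * g * s⁻¹ ∈ L) {k : G}
    (hk : k ∈ closure {x | ∃ l ∈ L, x = s * l * s⁻¹ * l⁻¹}) :
    s * k * s⁻¹ ∈ closure {x | ∃ l ∈ L, x = s * l * s⁻¹ * l⁻¹} := by
  induction hk using closure_induction with
  | mem x hx =>
    obtain ⟨m, hm, rfl⟩ := hx
    refine subset_closure ⟨s * m * s⁻¹, hs m hm, ?_⟩
    group
  | one => simp
  | mul x y _ _ hx hy =>
    have h1 : s * (x * y) * s⁻¹ = s * x * s⁻¹ * (s * y * s⁻¹) := by group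
    rw [h1]; exact mul_mem hx hy
  | inv x _ hx =>
    have h1 : s * x⁻¹ * s⁻¹ = (s * x * s⁻¹)⁻¹ := by group
    rw [h1]; exact inv_mem hx

theorem mem_normalizer_of_conj {G : Type*} [Group G] [Finite G] {K : Subgroup G} {g : G}
    (h : ∀ k ∈ K, g * k * g⁻¹ ∈ K) : g ∈ normalizer (K : Set G) := by
  rw [mem_normalizer_iff]
  intro k
  refine ⟨h k, fun hk => ?_⟩
  have h1 : K.map (MulAut.conj g).toMonoidHom = K := by
    apply Subgroup.eq_of_le_of_card_ge
    · rintro _ ⟨k, hk, rfl⟩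
      exact h k hk
    · exact (Nat.card_congr (K.equivMapOfInjective _ (MulAut.conj g).injective).toEquiv).le
  have h2 : g * k * g⁻¹ ∈ K.map (MulAut.conj g).toMonoidHom := by rw [h1]; exact hk
  obtain ⟨k', hk', he⟩ := h2
  have he' : g * k' * g⁻¹ = g * k * g⁻¹ := he
  have : k' = k := mul_left_cancel (mul_right_cancel he')
  rwa [← this]

/-- the case of a nontrivial `O_l`. -/
theorem of_core (h : Prim t a l x) {L A : Subgroup (V ≃ₗ[ZMod t] V)} (hx : x ∈ L) (hA : IsPGroup l A) (hA1 : A ≠ ⊥)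
    (hAn : L ≤ normalizer (A : Set (V ≃ₗ[ZMod t] V))) : ∀ g ∈ L, g * x * g⁻¹ ∈ zpowers x := by
  haveI : Finite (V ≃ₗ[ZMod t] V) := DFunLike.finite _
  haveI : Fact l.Prime := ⟨h.hl⟩
  haveI : Nontrivial A := (Subgroup.nontrivial_iff_ne_bot A).2 hA1
  -- a central element of order `l`
  haveI : Nontrivial (center A) := hA.center_nontrivial
  have hZ : IsPGroup l (center A) := hA.to_subgroup _
  obtain ⟨n, hn, hc⟩ := hZ.nontrivial_iff_card.1 inferInstance
  obtain ⟨y, hy⟩ := exists_prime_orderOf_dvd_card' (G := center A) l (hc ▸ dvd_pow_self l hn.ne')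
  let y' : V ≃ₗ[ZMod t] V := ((y : A) : V ≃ₗ[ZMod t] V)
  have hyo : orderOf y' = l := by rw [← hy, ← orderOf_coe y, ← orderOf_coe (y : A)]
  have hyc : ∀ b ∈ A, b * y' = y' * b := fun b hb => congrArg Subtype.val (mem_center_iff.1 y.2 ⟨b, hb⟩)
  have hP : Prim t a l y' := ⟨h.hl, h.ha, h.hdvd, h.hprim, h.hV, hyo⟩
  have hxl : x ^ l = 1 := by rw [← h.hx]; exact pow_orderOf_eq_one x
  have hnorm : ∀ g ∈ L, g * y' * g⁻¹ ∈ zpowers y' := by
    intro g hg
    have h1 : g * y' * g⁻¹ ∈ A := (mem_normalizer_iff.1 (hAn hg) y').1 (y : A).2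
    refine cyc hP ?_ (hyc _ h1)
    rw [conj_pow, ← hyo, pow_orderOf_eq_one, mul_one, mul_inv_cancel]
  have hcom : x * y' = y' * x := comm_of_norm h.hl hxl hyo (hnorm x hx)
  have hxy : x ∈ zpowers y' := cyc hP hxl hcom
  have heq : zpowers x = zpowers y' := zpowers_eq h.hl hyo hxy h.ne_one
  intro g hg
  rw [heq] at *
  obtain ⟨k, hk⟩ := hxy
  have hk' : y' ^ k = x := hk
  rw [← hk', ← conj_zpow]
  exact zpow_mem (hnorm g hg) k

/-- blin, part A. -/
theorem blinA {t a q l : ℕ} [Fact t.Prime] (hq : q.Prime) (hl : l.Prime) {V : Type*} [AddCommGroup V]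
    [Module (ZMod t) V] [Finite V] (hV : Nat.card V = t ^ a) (ha : 0 < a) (hdvd : l ∣ t ^ a - 1)
    (hprim : ∀ i, 0 < i → i < a → ¬ l ∣ t ^ i - 1)
    (L : Subgroup (V ≃ₗ[ZMod t] V)) (s : V ≃ₗ[ZMod t] V) (hs : s ^ q = 1)
    (hn : ∀ g ∈ L, s * g * s⁻¹ ∈ L) (hqL : ¬ q ∣ Nat.card L) (hqt : q ≠ t)
    (S1 : Nat.card V - 1 = (centralizer {s}).relIndex L * (Nat.card {v : V // s v = v} - 1))
    (hfix : ∃ v : V, v ≠ 0 ∧ s v = v)
    (x : V ≃ₗ[ZMod t] V) (hx : x ∈ L) (hxl : orderOf x = l) (hsx : s * x * s⁻¹ ∈ zpowers x) (hsx' : s * x ≠ x * s)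
    (hF : (∀ f : ℕ, f.Prime → f ∣ (centralizer {s}).relIndex L → q ∣ f - 1) →
      Group.IsSolvable ↥(closure {x | ∃ l ∈ L, x = s * l * s⁻¹ * l⁻¹})) :
    ∀ g ∈ L, g * x * g⁻¹ ∈ zpowers x := by
  haveI : Finite (V ≃ₗ[ZMod t] V) := DFunLike.finite _
  haveI : Fact l.Prime := ⟨hl⟩
  haveI : Fact q.Prime := ⟨hq⟩
  have hP : Prim t a l x := ⟨hl, ha, hdvd, hprim, hV, hxl⟩
  obtain ⟨hqa, hVs⟩ := (v1 hl ha hdvd hprim hV x hxl).2.2.2 s q hq hs hsx hsx' hfix
  set n := (centralizer {s}).relIndex L with hndef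
  have hnL : n ∣ Nat.card L := by
    rw [hndef]
    exact Subgroup.index_dvd_card _
  have hS : t ^ a - 1 = n * (t ^ (a / q) - 1) := by rw [← hV, ← hVs]; exact S1
  have ht2 : 2 ≤ t := (Fact.out : t.Prime).two_le
  have hprimes : ∀ f : ℕ, f.Prime → f ∣ n → q ∣ f - 1 := by
    intro f hf hfn
    refine arith ht2 ha hqa hq hS hf hfn ?_
    rintro rfl
    exact hqL (hfn.trans hnL)
  have hsol := hF hprimes
  set K := closure {x | ∃ l ∈ L, x = s * l * s⁻¹ * l⁻¹} with hK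
  have hKL : K ≤ L := by
    rw [hK, closure_le]
    rintro _ ⟨m, hm, rfl⟩
    exact mul_mem (hn m hm) (inv_mem hm)
  have hLK : L ≤ normalizer (K : Set (V ≃ₗ[ZMod t] V)) := fun g hg =>
    mem_normalizer_of_conj fun k hk => conj_mem_K hg hk
  have hsK : s ∈ normalizer (K : Set (V ≃ₗ[ZMod t] V)) :=
    mem_normalizer_of_conj fun k hk => conj_s_mem_K hn hk
  -- `w = [s, x]` generates `⟨x⟩`
  set w := s * x * s⁻¹ * x⁻¹ with hw
  have hwx : w ∈ zpowers x := mul_mem hsx (inv_mem (mem_zpowers x))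
  have hw1 : w ≠ 1 := by
    intro h1
    apply hsx'
    have h2 : s * x * s⁻¹ = x := mul_inv_eq_one.1 h1
    calc s * x = s * x * s⁻¹ * s := by group
      _ = x * s := by rw [h2]
  have hwK : w ∈ K := subset_closure ⟨x, hx, rfl⟩
  have hzw : zpowers w = zpowers x := zpowers_eq hl hxl hwx hw1
  have hxw : x ∈ zpowers w := by rw [hzw]; exact mem_zpowers x
  have hxK : x ∈ K := (zpowers_le.2 hwK) hxw
  -- `x` centralises `O_u(K)` for `u ≠ l`
  have hcore : ∀ u : ℕ, u.Prime → u ≠ l → ∀ b ∈ piCoreOf {u} K, x * b = b * x := by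
    intro u hu hul
    by_contra hcon
    set B := piCoreOf {u} K with hB
    have hBu : IsPGroup u B := isPGroup_piCoreOf hu K
    have hBK : B ≤ K := OddOrderLocal.PiCoreOf.piCoreOf_le _ _
    have hNB : normalizer (K : Set (V ≃ₗ[ZMod t] V)) ≤ normalizer (B : Set (V ≃ₗ[ZMod t] V)) :=
      OddOrderLocal.PiCoreOf.normalizer_le_normalizer_piCoreOf _ _
    have hLB : L ≤ normalizer (B : Set (V ≃ₗ[ZMod t] V)) := hLK.trans hNB
    have hxB : ∀ b ∈ B, x * b * x⁻¹ ∈ B := fun b hb => (mem_normalizer_iff.1 (hLB hx) b).1 hb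
    -- `s` does not centralise `B`
    have hsB : ¬ B ≤ centralizer {s} := by
      intro hsB
      have hsb : ∀ b ∈ B, s * b * s⁻¹ = b := by
        intro b hb
        have h1 := mem_centralizer_singleton_iff.1 (hsB hb)
        rw [← h1]; group
      have hwb : ∀ b ∈ B, w * b = b * w := by
        intro b hb
        have h1 : s * (x⁻¹ * b * x) * s⁻¹ = x⁻¹ * b * x := by
          apply hsb
          have := (mem_normalizer_iff.1 (hLB (inv_mem hx)) b).1 hb
          rwa [inv_inv] at this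
        have h2 : (s * x⁻¹ * s⁻¹) * b * (s * x * s⁻¹) = x⁻¹ * b * x := by
          calc (s * x⁻¹ * s⁻¹) * b * (s * x * s⁻¹) = (s * x⁻¹ * s⁻¹) * (s * b * s⁻¹) * (s * x * s⁻¹) := by
                rw [hsb b hb]
            _ = s * (x⁻¹ * b * x) * s⁻¹ := by group
            _ = _ := h1
        have h3 : x⁻¹ * b * x * (s * x * s⁻¹)⁻¹ = (s * x⁻¹ * s⁻¹) * b := by
          rw [← h2]; group
        -- b (x (s x s⁻¹)⁻¹) = (x s x⁻¹ s⁻¹) b
        have h4 : b * w⁻¹ = w⁻¹ * b := by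
          calc b * w⁻¹ = x * (x⁻¹ * b * x * (s * x * s⁻¹)⁻¹) := by rw [hw]; group
            _ = x * ((s * x⁻¹ * s⁻¹) * b) := by rw [h3]
            _ = w⁻¹ * b := by rw [hw]; group
        calc w * b = w * (b * w⁻¹) * w := by group
          _ = w * (w⁻¹ * b) * w := by rw [h4]
          _ = b * w := by group
      apply hcon
      intro b hb
      obtain ⟨k, hk⟩ := hxw
      have hk' : w ^ k = x := hk
      have h1 : Commute w b := hwb b hb
      rw [← hk']
      exact (h1.zpow_left k)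
    -- so `u` divides `n`
    haveI : Fact u.Prime := ⟨hu⟩
    have hun : u ∣ n := by
      have h1 : (centralizer {s}).relIndex B ∣ n := relIndex_dvd_relIndex _ _ _ (hBK.trans hKL) hLB
      have h2 : (centralizer {s}).relIndex B ≠ 1 := fun h => hsB (relIndex_eq_one.1 h)
      obtain ⟨m, hm⟩ := IsPGroup.iff_card.1 hBu
      have h3 : (centralizer {s}).relIndex B ∣ u ^ m := by
        rw [← hm]; exact Subgroup.index_dvd_card _
      obtain ⟨k, _, hk⟩ := (Nat.dvd_prime_pow hu).1 h3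
      have hk0 : k ≠ 0 := by
        rintro rfl
        exact h2 (by rw [hk, pow_zero])
      exact (dvd_pow_self u hk0).trans (hk ▸ h1)
    have hqu := hprimes u hu hun
    have hu2 : u ≠ 2 := by
      rintro rfl
      exact hq.one_lt.ne' (Nat.dvd_one.1 hqu)
    have hut : u ≠ t := by
      rintro rfl
      have h1 : u ∣ u ^ a - 1 := by rw [hS]; exact hun.mul_right _
      have h2 : u ∣ u ^ a := dvd_pow_self u ha.ne'
      have h3 : 1 ≤ u ^ a := Nat.one_le_pow _ _ hu.pos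
      have h4 : u ∣ 1 := by
        have := Nat.dvd_sub h2 h1
        rwa [Nat.sub_sub_self h3] at this
      exact hu.one_lt.ne' (Nat.dvd_one.1 h4)
    exact hcon (v2 hl ha hdvd hprim hV x hxl hu hu2 hut hul B hBu hxB)
  -- so `O_l(K) ≠ 1`
  have hne : piCoreOf {l} K ≠ ⊥ := by
    intro hbot
    have h1 : fittingOf K ≤ centralizer ({x} : Set (V ≃ₗ[ZMod t] V)) := by
      rw [fittingOf_le_iff]
      intro u hu b hb
      rw [mem_centralizer_singleton_iff]
      by_cases hul : u = l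
      · subst hul
        rw [hbot, mem_bot] at hb
        rw [hb, one_mul, mul_one]
      · exact (hcore u hu hul b hb).symm
    have h2 : x ∈ fittingOf K := by
      apply inf_centralizer_fittingOf_le hsol
      refine mem_inf.2 ⟨hxK, mem_centralizer_iff.2 fun b hb => ?_⟩
      exact mem_centralizer_singleton_iff.1 (h1 hb)
    have h3 : zpowers x ≤ piCoreOf {l} K :=
      le_core_of_le_fittingOf hl (zpowers_le.2 h2) (isPGroup_zpowers hl hxl)
    rw [hbot, zpowers_le, mem_bot] at h3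
    exact hP.ne_one h3
  exact of_core hP hx (isPGroup_piCoreOf hl K) hne
    (hLK.trans (OddOrderLocal.PiCoreOf.normalizer_le_normalizer_piCoreOf _ _))

end Cfsg.Agent.H529.BlinA
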