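import Cfsg.Agent.H531.RealMove
import Cfsg.Agent.H532.CopAct
import Cfsg.Agent.H532.Thr.Com

/-!
# The index of the fixed points of a coprime automorphism

`FRow f K` : `f` is a prime, the primes dividing `f - 1` divide `|K|`, and every automorphism `α ≠ 1` of `K` of prime
order not dividing `|K|` normalises, but does not centralise, some `f`-subgroup of `K`.

* `FRow.five` : if `FRow f K` and `b ≠ 1` has prime order `q`, `q ∤ |K|`, then `f` divides the index of the fixed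
  points of `b` and `q ∤ f - 1`.
-/

set_option autoImplicit false

namespace Cfsg.Agent.H529.FRo

open Cfsg.Agent.H254 Cfsg.Agent.ChevalleyStructure.SL2Hom Cfsg.Agent.H531 Cfsg.Agent.H532.Thr
open Subgroup
open scoped Pointwise

universe u v

/-- Every non-trivial automorphism of `K` of prime order prime to `|K|` acts non-trivially on an invariant
`f`-subgroup; the primes dividing `f - 1` divide `|K|`. -/
structure FRow (f : ℕ) (K : Type*) [Group K] : Prop where
  prime : f.Prime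
  dvd : ∀ q : ℕ, q.Prime → q ∣ f - 1 → q ∣ Nat.card K
  mv : ∀ (p : ℕ) (α : MulAut K), p.Prime → ¬ p ∣ Nat.card K → α ^ p = 1 → α ≠ 1 →
    ∃ X : Subgroup K, IsPGroup f X ∧ (∀ x ∈ X, α x ∈ X) ∧ ∃ x ∈ X, α x ≠ x

/-- transport of the invariant subgroups -/
theorem mv_transport {f : ℕ} {K : Type u} [Group K] {L : Type v} [Group L] (e : K ≃* L) {α : MulAut K} {β : MulAut L}
    (hαβ : ∀ x, e (α x) = β (e x)) (h : ∃ X : Subgroup K, IsPGroup f X ∧ (∀ x ∈ X, α x ∈ X) ∧ ∃ x ∈ X, α x ≠ x) :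
    ∃ X : Subgroup L, IsPGroup f X ∧ (∀ x ∈ X, β x ∈ X) ∧ ∃ x ∈ X, β x ≠ x := by
  obtain ⟨X, h1, h2, x, hx, h3⟩ := h
  refine ⟨X.map e.toMonoidHom, h1.map _, ?_, e x, ⟨x, hx, rfl⟩, ?_⟩
  · rintro _ ⟨y, hy, rfl⟩
    refine ⟨α y, h2 y hy, ?_⟩
    exact hαβ y
  · rw [← hαβ]
    exact fun h => h3 (e.injective h)

theorem FRow.of_equiv {f : ℕ} {K : Type u} [Group K] {L : Type v} [Group L] (e : K ≃* L) (h : FRow f K) : FRow f L := by
  have hcard : Nat.card K = Nat.card L := Nat.card_congr e.toEquiv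
  refine ⟨h.prime, fun q hq hd => hcard ▸ h.dvd q hq hd, ?_⟩
  intro p α hp hpL hα hne
  refine mv_transport e (α := (MulAut.congr e).symm α) ?_ (h.mv p ((MulAut.congr e).symm α) hp
    (by rw [hcard]; exact hpL) (by rw [← map_pow, hα, map_one]) ?_)
  · intro x
    show e (e.symm (α (e x))) = _
    rw [MulEquiv.apply_symm_apply]
  · intro h
    apply hne
    have := congrArg (MulAut.congr e) h
    rwa [MulEquiv.apply_symm_apply, map_one] at this

theorem FRow.of_copTriv {K : Type u} [Group K] (h : CopTriv K) : FRow 2 K := by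
  refine ⟨Nat.prime_two, fun q hq hd => absurd (Nat.dvd_one.1 hd) hq.one_lt.ne', ?_⟩
  intro p α hp hpK hα hne
  have hpf : Fact p.Prime := ⟨hp⟩
  have ho : orderOf α = p := orderOf_eq_prime hα hne
  have hcop : (Nat.card (Subgroup.zpowers α)).Coprime (Nat.card K) := by
    rw [Nat.card_zpowers, ho]
    exact (Nat.Prime.coprime_iff_not_dvd hp).2 hpK
  exact absurd (Subgroup.zpowers_eq_bot.1 (h _ hcop)) hne

/-- It is enough to treat the automorphisms up to conjugacy. -/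
theorem mv_of_conj {f : ℕ} {K : Type u} [Group K] {g α β : MulAut K} (hg : g * α * g⁻¹ = β)
    (h : ∃ X : Subgroup K, IsPGroup f X ∧ (∀ x ∈ X, β x ∈ X) ∧ ∃ x ∈ X, β x ≠ x) :
    ∃ X : Subgroup K, IsPGroup f X ∧ (∀ x ∈ X, α x ∈ X) ∧ ∃ x ∈ X, α x ≠ x := by
  refine mv_transport (g⁻¹ : MulAut K) (α := β) ?_ h
  intro x
  rw [← hg]
  show g⁻¹ (g (α (g⁻¹ x))) = _
  rw [MulAut.inv_apply_self]

theorem pow_of_conj {K : Type u} [Group K] {g α β : MulAut K} (hg : g * α * g⁻¹ = β) {p : ℕ} (hα : α ^ p = 1) :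
    β ^ p = 1 := by
  rw [← hg, conj_pow, hα, mul_one, mul_inv_cancel]

theorem ne_of_conj {K : Type u} [Group K] {g α β : MulAut K} (hg : g * α * g⁻¹ = β) (hα : α ≠ 1) : β ≠ 1 := by
  intro h
  apply hα
  rw [h, mul_inv_eq_one, mul_eq_left] at hg
  exact hg

/-- **Criterion for field automorphisms.** -/
theorem FRow.of_fieldConj {f : ℕ} (hf : f.Prime) {K : Type u} [Group K] {F : Type v} [Field F]
    (φ : (F ≃+* F) →* MulAut K) (hco : FieldConj φ) (hd : ∀ q : ℕ, q.Prime → q ∣ f - 1 → q ∣ Nat.card K)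
    (mv : ∀ (p : ℕ) (τ : F ≃+* F), p.Prime → ¬ p ∣ Nat.card K → (φ τ) ^ p = 1 → φ τ ≠ 1 →
      ∃ X : Subgroup K, IsPGroup f X ∧ (∀ x ∈ X, φ τ x ∈ X) ∧ ∃ x ∈ X, φ τ x ≠ x) : FRow f K := by
  refine ⟨hf, hd, ?_⟩
  intro p α hp hpK hα hne
  have hpf : Fact p.Prime := ⟨hp⟩
  have ho : orderOf α = p := orderOf_eq_prime hα hne
  obtain ⟨g, τ, hg⟩ := hco α (by rw [ho]; exact (Nat.Prime.coprime_iff_not_dvd hp).2 hpK)
  exact mv_of_conj hg (mv p τ hp hpK (pow_of_conj hg hα) (ne_of_conj hg hne))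

/-- A homomorphism with small kernel. -/
theorem dvd_of_hom {K : Type u} [Group K] (h2 : 2 ∣ Nat.card K) {U : Type v} [Group U] [Finite U] (h : U →* K)
    (hker : ∀ u : U, h u = 1 → u ^ 2 = 1) {q : ℕ} (hq : q.Prime) (hd : q ∣ Nat.card U) : q ∣ Nat.card K := by
  have hqf : Fact q.Prime := ⟨hq⟩
  by_cases h3 : q = 2
  · rw [h3]; exact h2
  · obtain ⟨u, hu⟩ := exists_prime_orderOf_dvd_card' q hd
    have h4 : orderOf (h u) = q := by
      apply orderOf_eq_prime
      · rw [← map_pow, ← hu, pow_orderOf_eq_one, map_one]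
      · intro h5
        have h6 := orderOf_dvd_of_pow_eq_one (hker u h5)
        rw [hu] at h6
        exact h3 ((Nat.prime_dvd_prime_iff_eq hq Nat.prime_two).1 h6)
    rw [← h4]
    exact orderOf_dvd_natCard _

/-- The image of an additive group of exponent `f`. -/
theorem isPGroup_range {f : ℕ} {V : Type v} [AddGroup V] {K : Type u} [Group K] (x : Multiplicative V →* K)
    (hV : ∀ t : V, f • t = 0) : IsPGroup f x.range := by
  rintro ⟨_, t, rfl⟩
  refine ⟨1, Subtype.ext ?_⟩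
  show x t ^ f ^ 1 = 1
  rw [pow_one, ← map_pow]
  have : t ^ f = 1 := hV (Multiplicative.toAdd t)
  rw [this, map_one]

/-- the moved root subgroup -/
theorem mv_root {f : ℕ} {K : Type u} [Group K] {F : Type v} [Field F] [CharP F f] (V : AddSubgroup F)
    (x : Multiplicative V →* K) (hinj : ∀ t : V, x (Multiplicative.ofAdd t) = 1 → t = 0) {α : MulAut K} {τ : F ≃+* F}
    (hV : ∀ t ∈ V, τ t ∈ V) (hφ : ∀ t t' : V, (t' : F) = τ t → α (x (Multiplicative.ofAdd t)) = x (Multiplicative.ofAdd t'))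
    (hne : ¬ ∀ t ∈ V, τ t = t) :
    ∃ X : Subgroup K, IsPGroup f X ∧ (∀ x ∈ X, α x ∈ X) ∧ ∃ x ∈ X, α x ≠ x := by
  push Not at hne
  obtain ⟨t, ht, hne⟩ := hne
  refine ⟨x.range, isPGroup_range x ?_, ?_, x (Multiplicative.ofAdd ⟨t, ht⟩), ⟨_, rfl⟩, ?_⟩
  · intro t
    apply Subtype.ext
    rw [AddSubgroup.coe_nsmul, nsmul_eq_mul, CharP.cast_eq_zero, zero_mul]
    rfl
  · rintro _ ⟨s, rfl⟩
    obtain ⟨s, rfl⟩ := Multiplicative.ofAdd.surjective s
    exact ⟨Multiplicative.ofAdd ⟨τ s, hV _ s.2⟩, (hφ s _ rfl).symm⟩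
  · intro h
    rw [hφ ⟨t, ht⟩ ⟨τ t, hV t ht⟩ rfl] at h
    apply hne
    have h1 : (⟨τ t, hV t ht⟩ - ⟨t, ht⟩ : V) = 0 := by
      apply hinj
      rw [ofAdd_sub, map_div, h, div_self']
    exact congrArg Subtype.val (sub_eq_zero.1 h1)

/-- `f - 1` divides `|F| - 1`. -/
theorem sub_one_dvd {F : Type v} [Field F] [Finite F] {f : ℕ} [CharP F f] : f - 1 ∣ Nat.card F - 1 := by
  have : Fintype F := Fintype.ofFinite F
  obtain ⟨n, _, hn⟩ := FiniteField.card F f
  rw [Nat.card_eq_fintype_card, hn]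
  simpa using Nat.sub_dvd_pow_sub_pow f 1 (n : ℕ)

theorem prime_of_char {F : Type v} [Field F] [Finite F] {f : ℕ} [CharP F f] : f.Prime := by
  have : Fintype F := Fintype.ofFinite F
  obtain ⟨n, h, hn⟩ := FiniteField.card F f
  exact h

/-- The root group of `SL₂` as a homomorphism. -/
def upHom (F : Type v) [Field F] : Multiplicative F →* Matrix.SpecialLinearGroup (Fin 2) F where
  toFun t := up (Multiplicative.toAdd t)
  map_one' := by
    apply Subtype.ext
    show !![(1 : F), 0; 0, 1] = 1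
    rw [Matrix.one_fin_two]
  map_mul' s t := by
    apply Subtype.ext
    show !![(1 : F), Multiplicative.toAdd s + Multiplicative.toAdd t; 0, 1] =
      !![(1 : F), Multiplicative.toAdd s; 0, 1] * !![(1 : F), Multiplicative.toAdd t; 0, 1]
    rw [Matrix.mul_fin_two]
    simp [add_comm]

/-- **Criterion**: the whole field. -/
theorem FRow.of_add {K : Type u} [Group K] {F : Type v} [Field F] [Finite F] {f : ℕ} [CharP F f]
    (φ : (F ≃+* F) →* MulAut K) (hco : FieldConj φ) (x : Multiplicative F →* K)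
    (hφ : ∀ (τ : F ≃+* F) (t : F), φ τ (x (Multiplicative.ofAdd t)) = x (Multiplicative.ofAdd (τ t)))
    (hinj : ∀ t : F, x (Multiplicative.ofAdd t) = 1 → t = 0)
    (hd : ∀ q : ℕ, q.Prime → q ∣ f - 1 → q ∣ Nat.card K) : FRow f K := by
  refine FRow.of_fieldConj (prime_of_char (F := F)) φ hco hd ?_
  intro p τ hp hpK hpow hne
  refine mv_root (F := F) (τ := τ) ⊤ (x.comp (AddMonoidHom.toMultiplicative (⊤ : AddSubgroup F).subtype)) ?_
    (fun _ _ => AddSubgroup.mem_top _) ?_ ?_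
  · intro t ht
    exact Subtype.ext (hinj t ht)
  · intro t t' htt
    show φ τ (x (Multiplicative.ofAdd (t : F))) = x (Multiplicative.ofAdd (t' : F))
    rw [hφ, htt]
  · intro h
    apply hne
    have h1 : τ = 1 := by
      ext t
      exact h t (AddSubgroup.mem_top _)
    rw [h1, map_one]

/-- **Criterion**, with `SL₂`. -/
theorem FRow.of_sl {K : Type u} [Group K] {F : Type v} [Field F] [Finite F] {f : ℕ} [CharP F f]
    (h2 : 2 ∣ Nat.card K) (φ : (F ≃+* F) →* MulAut K) (hco : FieldConj φ)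
    (s : Matrix.SpecialLinearGroup (Fin 2) F →* K)
    (hφ : ∀ (τ : F ≃+* F) (t : F), φ τ (s (up t)) = s (up (τ t)))
    (hinj : ∀ t : F, s (up t) = 1 → t = 0) : FRow f K := by
  refine FRow.of_add φ hco (s.comp (upHom F)) hφ hinj ?_
  intro q hq hd
  refine dvd_of_hom h2 (s.comp (diagSL F)) (fun u hu => sq_of_ker s hinj u hu) hq ?_
  rw [Nat.card_units]
  exact hd.trans sub_one_dvd

/-! ### The index of the fixed points -/

/-- **(F5)** for groups with `FRow`. -/
theorem FRow.five {f : ℕ} {K : Type u} [Group K] [Finite K] (h : FRow f K) {q : ℕ} (hq : q.Prime)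
    (hqK : ¬ q ∣ Nat.card K) {b : MulAut K} (hb : b ^ q = 1) (hb1 : b ≠ 1) :
    f ∣ (fix b).index ∧ ¬ q ∣ f - 1 := by
  refine ⟨?_, fun hd => hqK (h.dvd q hq hd)⟩
  by_contra hcon
  have hff : Fact f.Prime := ⟨h.prime⟩
  have hqf : Fact q.Prime := ⟨hq⟩
  have ho : orderOf b = q := orderOf_eq_prime hb hb1
  obtain ⟨X, hX, hXb, x, hx, hne⟩ := h.mv q b hq hqK hb hb1
  -- the action of `⟨b⟩`
  have hcop : (Nat.card (zpowers b)).Coprime (Nat.card K) := by
    rw [Nat.card_zpowers, ho]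
    exact (Nat.Prime.coprime_iff_not_dvd hq).2 hqK
  have hsolv : Group.IsSolvable (zpowers b) ∨ Group.IsSolvable K := Or.inl (solv_zpowers b)
  have hfb : ∀ a : zpowers b, ∀ y ∈ fix b, a • y = y := by
    rintro ⟨_, k, rfl⟩ y hy
    have h1 : b ∈ MulAction.stabilizer (MulAut K) y := mem_fix.1 hy
    exact (MulAction.stabilizer (MulAut K) y).zpow_mem h1 k
  obtain ⟨P, hP, hPf⟩ := Cfsg.Agent.H532.CopAct.exists_inv_sylow_le hcop hsolv f (fix b)
    (fun a y hy => by rw [hfb a y hy]; exact hy) hcon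
  have hXi : Inv b X := Inv.of_le hXb
  have hXa : ∀ a : zpowers b, ∀ y ∈ X, a • y ∈ X := by
    let S : Subgroup (MulAut K) :=
      { carrier := {β | ∀ y, β y ∈ X ↔ y ∈ X}
        one_mem' := fun y => Iff.rfl
        mul_mem' := fun {a c} ha hc y => by rw [MulAut.mul_apply, ha, hc]
        inv_mem' := fun {a} ha y => by rw [← ha (a⁻¹ y), MulAut.apply_inv_self] }
    have hbS : b ∈ S := hXi
    rintro ⟨a, ha⟩ y hy
    have h1 : a ∈ S := (zpowers_le.2 hbS) ha
    exact (h1 y).2 hy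
  obtain ⟨Q, hQ, hXQ⟩ := Cfsg.Agent.H532.CopAct.exists_inv_sylow_ge hcop hsolv f X hX hXa
  obtain ⟨g, hg, hPQ⟩ := (Cfsg.Agent.H532.CopAct.inv_sylow hcop hsolv f).2 P Q hP hQ
  have hgb : b g = g := hg ⟨b, mem_zpowers b⟩
  have h1 : x ∈ (g • P : Sylow f K) := by
    rw [hPQ]
    exact hXQ hx
  have h2 : x ∈ (MulAut.conj g • (P : Subgroup K)) := h1
  rw [Subgroup.mem_pointwise_smul_iff_inv_smul_mem] at h2
  have h3 : (MulAut.conj g)⁻¹ • x ∈ fix b := hPf h2
  have h4 : g⁻¹ * x * g ∈ fix b := by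
    have : (MulAut.conj g)⁻¹ • x = g⁻¹ * x * g := by
      simp [MulAut.smul_def, MulAut.inv_def]
    rwa [this] at h3
  apply hne
  have h5 : x = g * (g⁻¹ * x * g) * g⁻¹ := by group
  have h6 : x ∈ fix b := by
    rw [h5]
    exact mul_mem (mul_mem hgb h4) (inv_mem hgb)
  exact h6

end Cfsg.Agent.H529.FRo
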