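import Cfsg.Agent.H529.IncB
import Cfsg.Agent.H683.CpqLem
import Cfsg.Agent.H531.FMAll

/-!
# Lemma X for S4256 (helper529)
-/

set_option autoImplicit false

namespace Cfsg.Agent.H529.Inc

open Subgroup Cfsg.Agent.H532.Thr Cfsg.Agent.H544.CS
open Cfsg.Agent.Lib.MinNormal Cfsg.Agent.Lib.MinNormalNonabelian

universe u

theorem boxX : BoxX.{u} := by
  intro G _ _ V hV hab p q hp hq hpq hpV hqV a b ha hb hcomm haV hbV
  haveI := hV.1
  have H : Cfsg.Agent.H531.LemX.Str V := Cfsg.Agent.H531.LemX.Str.of V hV.2.2 fun h => hab fun x hx y hy => h x hx y hy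
  obtain ⟨k, hk⟩ := ha
  obtain ⟨l, hl⟩ := hb
  have key : ∀ c : G, c ∉ centralizer (V : Set G) → ∃ v ∈ V, ¬ Commute c v := by
    intro c hc
    by_contra hcon
    push Not at hcon
    exact hc (mem_centralizer_iff.2 fun v hv => (hcon v hv).symm)
  obtain ⟨v, hv, h1, h2⟩ := Cfsg.Agent.H683.Cpq.lemX H (fun T => by
    haveI := H.simple T
    refine Cfsg.Agent.H531.FMAll.fm T.1 fun h => ?_
    exact H.nonabelian T fun x y => h.is_comm.comm x y) hp hq hpq hpV hqV hk hl hcomm (key a haV) (key b hbV)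
  exact ⟨v, hv, fun h => h h1, fun h => h h2⟩

end Cfsg.Agent.H529.Inc
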