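import Cfsg.Agent.H531.RealMove

/-!
# Coprime automorphisms act faithfully on an invariant real cyclic subgroup

`NMove K` : every automorphism `α` of `K` of order prime to `|K|` normalises a cyclic subgroup `⟨x⟩`, no non-trivial
power of `α` fixes `x`, and `x` is inverted by an element of `K`.

The criteria are those of `Cfsg.Agent.H531.RealMove` (same hypotheses).

* `NMove.one` : the case of prime order;
* `NMove.two` : two commuting automorphisms of different prime orders.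
-/

set_option autoImplicit false

namespace Cfsg.Agent.H529.NMv

open Cfsg.Agent.H254 Cfsg.Agent.ChevalleyStructure.SL2Hom Cfsg.Agent.H531

universe u v

/-- Every automorphism of `K` of order prime to `|K|` normalises a cyclic subgroup `⟨x⟩`, `x` real, such that no
non-trivial power of the automorphism fixes `x`. -/
def NMove (K : Type*) [Group K] : Prop :=
  ∀ α : MulAut K, (orderOf α).Coprime (Nat.card K) →
    ∃ x t : K, α x ∈ Subgroup.zpowers x ∧ (∀ k : ℤ, (α ^ k) x = x → α ^ k = 1) ∧ t * x * t⁻¹ = x⁻¹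

theorem NMove.of_equiv {K : Type u} [Group K] {L : Type v} [Group L] (e : K ≃* L) (h : NMove K) : NMove L := by
  intro α hα
  have hcard : Nat.card K = Nat.card L := Nat.card_congr e.toEquiv
  obtain ⟨x, t, h1, h2, h3⟩ := h ((MulAut.congr e).symm α) (by
    rw [hcard, MulEquiv.orderOf_eq (MulAut.congr e).symm α]
    exact hα)
  have h4 : (MulAut.congr e).symm α x = e.symm (α (e x)) := rfl
  refine ⟨e x, e t, ?_, ?_, ?_⟩
  · rw [h4] at h1
    obtain ⟨k, hk⟩ := Subgroup.mem_zpowers_iff.1 h1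
    refine Subgroup.mem_zpowers_iff.2 ⟨k, ?_⟩
    rw [← map_zpow, hk, MulEquiv.apply_symm_apply]
  · intro k hk
    have h5 : ((MulAut.congr e).symm α) ^ k = (MulAut.congr e).symm (α ^ k) := (map_zpow _ _ _).symm
    have h6 : ((MulAut.congr e).symm (α ^ k)) x = e.symm ((α ^ k) (e x)) := rfl
    have h7 := h2 k (by rw [h5, h6, hk, MulEquiv.symm_apply_apply])
    rw [h5] at h7
    have h8 := congrArg (MulAut.congr e) h7
    rwa [MulEquiv.apply_symm_apply, map_one] at h8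
  · rw [← map_mul, ← map_inv, ← map_mul, h3, map_inv]

/-- It is enough to treat the automorphisms up to conjugacy. -/
theorem NMove.of_conj {K : Type u} [Group K]
    (h : ∀ α : MulAut K, (orderOf α).Coprime (Nat.card K) → ∃ (g β : MulAut K), g * α * g⁻¹ = β ∧
      ((orderOf β).Coprime (Nat.card K) → ∃ x t : K, β x ∈ Subgroup.zpowers x ∧
        (∀ k : ℤ, (β ^ k) x = x → β ^ k = 1) ∧ t * x * t⁻¹ = x⁻¹)) : NMove K := by
  intro α hα
  obtain ⟨g, β, hk, hm⟩ := h α hα
  have ho : orderOf β = orderOf α := by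
    rw [← hk]
    exact MulEquiv.orderOf_eq (MulAut.conj g) α
  obtain ⟨x, t, h3, h4, h5⟩ := hm (by rw [ho]; exact hα)
  have h2 : ∀ k : ℤ, α ^ k = g⁻¹ * β ^ k * g := by
    intro k
    rw [← hk, conj_zpow]
    group
  have h6 : ∀ k : ℤ, (α ^ k) (g⁻¹ x) = g⁻¹ ((β ^ k) x) := by
    intro k
    rw [h2]
    show g⁻¹ ((β ^ k) (g (g⁻¹ x))) = _
    rw [MulAut.apply_inv_self]
  refine ⟨g⁻¹ x, g⁻¹ t, ?_, ?_, ?_⟩
  · have h7 := h6 1
    rw [zpow_one, zpow_one] at h7
    rw [h7]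
    obtain ⟨j, hj⟩ := Subgroup.mem_zpowers_iff.1 h3
    refine Subgroup.mem_zpowers_iff.2 ⟨j, ?_⟩
    rw [← map_zpow, hj]
  · intro k h
    rw [h6] at h
    rw [h2, h4 k (g⁻¹.injective h), mul_one, inv_mul_cancel]
  · rw [← map_mul, ← map_inv, ← map_mul, h5, map_inv]

/-- If the moved real cyclic subgroups exist for the powers of `σ`, they exist for all coprime automorphisms. -/
theorem NMove.of_copIn' {K : Type u} [Group K] {σ : MulAut K} (h : CopIn K σ)
    (hm : ∀ k : ℤ, (orderOf (σ ^ k)).Coprime (Nat.card K) →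
      ∃ x t : K, (σ ^ k) x ∈ Subgroup.zpowers x ∧ (∀ j : ℤ, ((σ ^ k) ^ j) x = x → (σ ^ k) ^ j = 1) ∧
        t * x * t⁻¹ = x⁻¹) : NMove K := by
  refine NMove.of_conj ?_
  intro α hα
  obtain ⟨g, hg⟩ := h (Subgroup.zpowers α) (by rw [Nat.card_zpowers]; exact hα)
  have h1 : MulAut.conj g α ∈ Subgroup.zpowers σ := hg ⟨α, Subgroup.mem_zpowers α, rfl⟩
  obtain ⟨k, hk⟩ := Subgroup.mem_zpowers_iff.1 h1
  rw [MulAut.conj_apply] at hk
  exact ⟨g, σ ^ k, hk.symm, hm k⟩

/-- **Criterion for field automorphisms.** -/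
theorem NMove.of_field {K : Type u} [Group K] {F : Type v} [Field F] [Finite F] (h2 : 2 ∣ Nat.card K)
    (φ : (F ≃+* F) →* MulAut K) (hco : FieldConj φ) (U : Subgroup Fˣ) (h : U →* K)
    (hφ : ∀ (τ : F ≃+* F) (u u' : U), ((u' : Fˣ) : F) = τ ((u : Fˣ) : F) → φ τ (h u) = h u')
    (hker : ∀ u : U, h u = 1 → u ^ 2 = 1) (hreal : ∀ u : U, ∃ t : K, t * h u * t⁻¹ = (h u)⁻¹)
    (c : ℕ) (hc : ∀ p : ℕ, p.Prime → p ∣ c → p ∣ Nat.card K)
    (hU : ∀ τ : F ≃+* F, (∀ u ∈ U, τ ((u : Fˣ) : F) = u) → φ τ ^ c = 1) : NMove K := by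
  -- a generator of `U`
  have hcyc : IsCyclic U := inferInstance
  obtain ⟨u, hu⟩ := IsCyclic.exists_generator (α := U)
  -- the action on the generator
  have key0 : ∀ τ : F ≃+* F, ∃ m : ℤ, φ τ (h u) = h u ^ m ∧ Units.map (τ : F →* F) (u : Fˣ) = (u : Fˣ) ^ m := by
    intro τ
    obtain ⟨m, hm⟩ := MonoidHom.map_cyclic (Units.map (τ : F →* F))
    refine ⟨m, ?_, hm _⟩
    rw [← map_zpow]
    apply hφ
    have := congrArg Units.val (hm (u : Fˣ))
    rw [Subgroup.coe_zpow]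
    rw [← this]
    rfl
  have key : ∀ τ : F ≃+* F, (orderOf (φ τ)).Coprime (Nat.card K) → φ τ (h u) = h u → φ τ = 1 := by
    intro τ hcop h4
    obtain ⟨m, h3, hm⟩ := key0 τ
    have h5 : (u ^ (m - 1)) ^ 2 = 1 := by
      apply hker
      rw [map_zpow, zpow_sub_one, ← h3, h4, mul_inv_cancel]
    have h7 : τ (((u : Fˣ) : F)) = ((u : Fˣ) : F) * (((u ^ (m - 1) : U) : Fˣ) : F) := by
      have h8 := congrArg Units.val hm
      have h9 : ((u : Fˣ)) ^ m = (u : Fˣ) * ((u ^ (m - 1) : U) : Fˣ) := by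
        rw [Subgroup.coe_zpow, zpow_sub_one, mul_comm, inv_mul_cancel_right]
      rw [h9] at h8
      exact h8
    have h10 : (((u ^ (m - 1) : U) : Fˣ) : F) ^ 2 = 1 := by
      have := congrArg (fun z : U => (((z : Fˣ)) : F)) h5
      simpa using this
    have h11 : τ (τ (((u : Fˣ) : F))) = ((u : Fˣ) : F) := by
      have h12 : τ ((((u ^ (m - 1) : U) : Fˣ) : F)) = (((u ^ (m - 1) : U) : Fˣ) : F) := by
        rcases (sq_eq_one_iff.1 h10) with h | h
        · rw [h, map_one]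
        · rw [h, map_neg, map_one]
      rw [h7, map_mul, h12, h7, mul_assoc, ← sq, h10, mul_one]
    have h6 : (φ (τ ^ 2)) ^ c = 1 := by
      apply hU
      intro v hv
      obtain ⟨k, hk⟩ := Subgroup.mem_zpowers_iff.1 (hu ⟨v, hv⟩)
      have h13 : Units.map ((τ ^ 2 : F ≃+* F) : F →* F) (u : Fˣ) = (u : Fˣ) := Units.ext h11
      have h14 : Units.map ((τ ^ 2 : F ≃+* F) : F →* F) ((u : Fˣ) ^ k) = (u : Fˣ) ^ k := by
        rw [map_zpow, h13]
      have h15 : v = (u : Fˣ) ^ k := by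
        have := congrArg Subtype.val hk
        simpa using this.symm
      rw [h15]
      exact congrArg Units.val h14
    rw [map_pow, ← pow_mul] at h6
    have h16 : (orderOf (φ τ)).Coprime (2 * c) := by
      rw [Nat.coprime_iff_gcd_eq_one]
      by_contra hne
      obtain ⟨p, hp, hpd⟩ := Nat.exists_prime_and_dvd hne
      have hp1 : p ∣ orderOf (φ τ) := hpd.trans (Nat.gcd_dvd_left _ _)
      have hp2 : p ∣ Nat.card K := by
        rcases hp.dvd_mul.1 (hpd.trans (Nat.gcd_dvd_right _ _)) with h | h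
        · rw [(Nat.prime_dvd_prime_iff_eq hp Nat.prime_two).1 h]
          exact h2
        · exact hc p hp h
      have := Nat.dvd_gcd hp1 hp2
      rw [hcop] at this
      exact hp.one_lt.ne' (Nat.dvd_one.1 this)
    have h17 := Nat.Coprime.eq_one_of_dvd h16 (orderOf_dvd_of_pow_eq_one h6)
    exact orderOf_eq_one_iff.1 h17
  refine NMove.of_conj ?_
  intro α hα
  obtain ⟨g, τ, hg⟩ := hco α hα
  refine ⟨g, φ τ, hg, ?_⟩
  intro hcop
  obtain ⟨t, ht⟩ := hreal u
  refine ⟨h u, t, ?_, ?_, ht⟩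
  · obtain ⟨m, h3, -⟩ := key0 τ
    rw [h3]
    exact Subgroup.zpow_mem _ (Subgroup.mem_zpowers _) _
  · intro k hk
    rw [← map_zpow] at hk ⊢
    refine key (τ ^ k) ?_ hk
    rw [map_zpow]
    exact Nat.Coprime.coprime_dvd_left (orderOf_dvd_of_mem_zpowers (Subgroup.zpow_mem _ (Subgroup.mem_zpowers _) k)) hcop

/-- **Criterion**, one dimensional version: `U = Fˣ`. -/
theorem NMove.of_field_units {K : Type u} [Group K] {F : Type v} [Field F] [Finite F] (h2 : 2 ∣ Nat.card K)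
    (φ : (F ≃+* F) →* MulAut K) (hco : FieldConj φ) (h : Fˣ →* K)
    (hφ : ∀ (τ : F ≃+* F) (u : Fˣ), φ τ (h u) = h (Units.map (τ : F →* F) u))
    (hker : ∀ u : Fˣ, h u = 1 → u ^ 2 = 1) (hreal : ∀ u : Fˣ, ∃ t : K, t * h u * t⁻¹ = (h u)⁻¹) : NMove K := by
  refine NMove.of_field h2 φ hco ⊤ (h.comp (Subgroup.subtype ⊤)) ?_ ?_ ?_ 1 ?_ ?_
  · intro τ u u' hu
    show φ τ (h (u : Fˣ)) = h (u' : Fˣ)
    rw [hφ]
    congr 1
    exact Units.ext hu.symm
  · intro u hu
    exact Subtype.ext (hker (u : Fˣ) hu)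
  · intro u
    exact hreal (u : Fˣ)
  · intro p hp hd
    exact absurd (Nat.dvd_one.1 hd) hp.one_lt.ne'
  · intro τ hτ
    have h1 : τ = 1 := by
      ext x
      rcases eq_or_ne x 0 with hx | hx
      · rw [hx, map_zero, map_zero]
      · exact hτ (Units.mk0 x hx) (Subgroup.mem_top _)
    rw [h1, map_one, one_pow]

/-- **Criterion**, with `SL₂`: `s` is a homomorphism from `SL₂(F)` to `K` with kernel contained in `{±1}`. -/
theorem NMove.of_sl {K : Type u} [Group K] {F : Type v} [Field F] [Finite F] (h2 : 2 ∣ Nat.card K)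
    (φ : (F ≃+* F) →* MulAut K) (hco : FieldConj φ)
    (s : Matrix.SpecialLinearGroup (Fin 2) F →* K)
    (hφ : ∀ (τ : F ≃+* F) (u : Fˣ), φ τ (s (diagSL F u)) = s (diagSL F (Units.map (τ : F →* F) u)))
    (hinj : ∀ t : F, s (up t) = 1 → t = 0) : NMove K := by
  refine NMove.of_field_units h2 φ hco (s.comp (diagSL F)) hφ ?_ ?_
  · intro u hu
    exact sq_of_ker s (hinj · ·) u hu
  · intro u
    refine ⟨s (weylSL F), ?_⟩
    show _ * s (diagSL F u) * _ = (s (diagSL F u))⁻¹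
    rw [← map_inv, ← map_inv, ← map_mul, ← map_mul, weylSL_conj]

/-- **Criterion**, with `SL₂` and its root groups. -/
theorem NMove.of_sl' {K : Type u} [Group K] {F : Type v} [Field F] [Finite F] (h2 : 2 ∣ Nat.card K)
    (φ : (F ≃+* F) →* MulAut K) (hco : FieldConj φ)
    (s : Matrix.SpecialLinearGroup (Fin 2) F →* K)
    (hup : ∀ (τ : F ≃+* F) (t : F), φ τ (s (up t)) = s (up (τ t)))
    (hlo : ∀ (τ : F ≃+* F) (t : F), φ τ (s (lo t)) = s (lo (τ t)))
    (hinj : ∀ t : F, s (up t) = 1 → t = 0) : NMove K :=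
  NMove.of_sl h2 φ hco s
    (fun τ u => by rw [equivariant s (φ τ) τ (hup τ) (hlo τ), map_diagSL]) hinj

theorem NMove.of_copTriv {K : Type u} [Group K] (h : CopTriv K) : NMove K := by
  intro α hα
  have h1 := Subgroup.zpowers_eq_bot.1 (h _ (by rw [Nat.card_zpowers]; exact hα))
  refine ⟨1, 1, by rw [map_one]; exact one_mem _, ?_, by simp⟩
  intro k _
  rw [h1, one_zpow]

/-! ### Consequences -/

/-- One automorphism of prime order. -/
theorem NMove.one {K : Type u} [Group K] (h : NMove K) {p : ℕ} (hp : p.Prime) (hpK : ¬ p ∣ Nat.card K)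
    {a : MulAut K} (ha : a ^ p = 1) (ha1 : a ≠ 1) : ∃ t : K, a t ∈ Subgroup.zpowers t ∧ a t ≠ t := by
  have hpf : Fact p.Prime := ⟨hp⟩
  have ho : orderOf a = p := orderOf_eq_prime ha ha1
  obtain ⟨x, -, h1, h2, -⟩ := h a (by rw [ho]; exact (Nat.Prime.coprime_iff_not_dvd hp).2 hpK)
  refine ⟨x, h1, fun h3 => ha1 ?_⟩
  have := h2 1 (by rw [zpow_one]; exact h3)
  rwa [zpow_one] at this

/-- A power of an automorphism normalising `⟨x⟩` normalises `⟨x⟩`. -/
theorem pow_mem {K : Type u} [Group K] {α : MulAut K} {x : K} (h : α x ∈ Subgroup.zpowers x) (n : ℕ) :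
    (α ^ n) x ∈ Subgroup.zpowers x := by
  induction n with
  | zero => rw [pow_zero]; exact Subgroup.mem_zpowers x
  | succ n ih =>
    rw [pow_succ']
    show α ((α ^ n) x) ∈ _
    obtain ⟨k, hk⟩ := Subgroup.mem_zpowers_iff.1 ih
    rw [← hk, map_zpow]
    exact Subgroup.zpow_mem _ h k

/-- Two commuting automorphisms of different prime orders. -/
theorem NMove.two {K : Type u} [Group K] (h : NMove K) {p q : ℕ} (hp : p.Prime) (hq : q.Prime) (hpq : p ≠ q)
    (hpK : ¬ p ∣ Nat.card K) (hqK : ¬ q ∣ Nat.card K) {a b : MulAut K} (hab : Commute a b)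
    (ha : a ^ p = 1) (ha1 : a ≠ 1) (hb : b ^ q = 1) (hb1 : b ≠ 1) :
    ∃ t : K, a t ∈ Subgroup.zpowers t ∧ b t ∈ Subgroup.zpowers t ∧ a t ≠ t ∧ b t ≠ t := by
  have hpf : Fact p.Prime := ⟨hp⟩
  have hqf : Fact q.Prime := ⟨hq⟩
  have hoa : orderOf a = p := orderOf_eq_prime ha ha1
  have hob : orderOf b = q := orderOf_eq_prime hb hb1
  have hcpq : Nat.Coprime p q := (Nat.coprime_primes hp hq).2 hpq
  have ho : orderOf (a * b) ∣ p * q := by
    apply orderOf_dvd_of_pow_eq_one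
    rw [hab.mul_pow, pow_mul, ha, one_pow, mul_comm p q, pow_mul, hb, one_pow, one_mul]
  obtain ⟨x, -, h1, h2, -⟩ := h (a * b) (Nat.Coprime.coprime_dvd_left ho (Nat.Coprime.mul_left
    ((Nat.Prime.coprime_iff_not_dvd hp).2 hpK) ((Nat.Prime.coprime_iff_not_dvd hq).2 hqK)))
  -- `a` and `b` are powers of `a * b`
  obtain ⟨i, hi1, hi2⟩ := Nat.chineseRemainder hcpq 1 0
  obtain ⟨j, hj1, hj2⟩ := Nat.chineseRemainder hcpq 0 1
  have ha' : (a * b) ^ i = a := by
    rw [hab.mul_pow]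
    have e1 : a ^ i = a := by
      conv_rhs => rw [← pow_one a]
      exact pow_eq_pow_iff_modEq.2 (by rw [hoa]; exact hi1)
    have e2 : b ^ i = 1 := by
      conv_rhs => rw [← pow_zero b]
      exact pow_eq_pow_iff_modEq.2 (by rw [hob]; exact hi2)
    rw [e1, e2, mul_one]
  have hb' : (a * b) ^ j = b := by
    rw [hab.mul_pow]
    have e1 : a ^ j = 1 := by
      conv_rhs => rw [← pow_zero a]
      exact pow_eq_pow_iff_modEq.2 (by rw [hoa]; exact hj1)
    have e2 : b ^ j = b := by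
      conv_rhs => rw [← pow_one b]
      exact pow_eq_pow_iff_modEq.2 (by rw [hob]; exact hj2)
    rw [e1, e2, one_mul]
  refine ⟨x, ?_, ?_, ?_, ?_⟩
  · rw [← ha']
    exact pow_mem h1 i
  · rw [← hb']
    exact pow_mem h1 j
  · intro h3
    apply ha1
    have := h2 (i : ℤ) (by rw [zpow_natCast, ha']; exact h3)
    rwa [zpow_natCast, ha'] at this
  · intro h3
    apply hb1
    have := h2 (j : ℤ) (by rw [zpow_natCast, hb']; exact h3)
    rwa [zpow_natCast, hb'] at this

end Cfsg.Agent.H529.NMv
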